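import Mathlib
import Cfsg.Agent.H27.EndNQ
import Cfsg.Agent.H86.Alt3

/-! # The type free end game: the automizer of `Q / Z` and the final step -/

set_option autoImplicit false
set_option linter.style.haveILetI false
set_option linter.unusedSectionVars false

namespace Cfsg.Agent.H27.End

open Cfsg Cfsg.Agent.H63 Cfsg.Agent.H63.SL Subgroup
open Cfsg.Agent.H8
open scoped commutatorElement Pointwise

universe u

variable {G : Type u} [Group G]

/-- The elements acting trivially on `Q / Z`. -/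
def CQ (Q Z : Subgroup G) : Subgroup G where
  carrier := {y | y ∈ N[Q] ∧ y ∈ N[Z] ∧ ∀ x ∈ Q, ⁅y, x⁆ ∈ Z}
  one_mem' := ⟨one_mem _, one_mem _, fun _ _ => by simp⟩
  mul_mem' := by
    rintro a b ⟨a1, a2, a3⟩ ⟨b1, b2, b3⟩
    refine ⟨mul_mem a1 b1, mul_mem a2 b2, fun x hx => ?_⟩
    have : ⁅a * b, x⁆ = a * ⁅b, x⁆ * a⁻¹ * ⁅a, x⁆ := by simp only [commutatorElement_def]; group
    rw [this]
    exact mul_mem (conj_mem a2 (b3 x hx)) (a3 x hx)
  inv_mem' := by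
    rintro a ⟨a1, a2, a3⟩
    refine ⟨inv_mem a1, inv_mem a2, fun x hx => ?_⟩
    have : ⁅a⁻¹, x⁆ = a⁻¹ * ⁅a, x⁆⁻¹ * a⁻¹⁻¹ := by simp only [commutatorElement_def]; group
    rw [this]
    exact conj_mem (inv_mem a2) (inv_mem (a3 x hx))

variable [Finite G]

theorem N_CQ {Q Z : Subgroup G} {g : G} (h1 : g ∈ N[Q]) (h2 : g ∈ N[Z]) : g ∈ N[CQ Q Z] :=
  mem_N_of_conj fun y hy => ⟨conj_mem (N_N h1) hy.1, conj_mem (N_N h2) hy.2.1, fun x hx => by
    have := conj_mem h2 (hy.2.2 _ (conj_mem (inv_mem h1) hx))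
    simpa [commutatorElement_def, mul_assoc] using this⟩

theorem N_DD {C : Subgroup G} {t c : G} (hc : c ∈ C) : c ∈ N[DD C t] :=
  mem_N_of_conj fun _ hx => closure_conj (by
    rintro _ ⟨_, ⟨a, ha, rfl⟩, _, ⟨b, hb, rfl⟩, rfl⟩
    exact subset_closure ⟨_, ⟨_, mul_mem hc ha, rfl⟩, _, ⟨_, mul_mem hc hb, rfl⟩, by group⟩) hx

theorem exists_odd_pow {N Q : Subgroup G} (h : ∀ g ∈ N, Is2 g → g ∈ Q) {w : G} (hw : w ∈ N) :
    ∃ j, w ^ (2 * j + 1) ∈ Q := by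
  obtain ⟨k, m, hm, e⟩ := Nat.exists_eq_two_pow_mul_odd (orderOf_pos w).ne'
  obtain ⟨j, rfl⟩ := hm
  exact ⟨j, h _ (pow_mem hw _) ⟨k, by rw [← pow_mul, mul_comm, ← e, pow_orderOf_eq_one]⟩⟩

variable {X G0 M0 U Q Z : Subgroup G} {z t : G}

/-- The automizer commutes with the Levi factor, provided its part in `N(G0)` can be absorbed. -/
theorem j0 (h : Loc0 G0 M0 U Q Z z t) (hG : Glob X G0 t) (hM : Mid X G0 M0 U z)
    (hS : Scal G0 U Q Z t) : JP X U Q Z := by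
  intro h1
  have hKH : NC (X ⊓ C[Z]) Q ≤ X ⊓ C[Z] := NC_le (h.QU.trans (h.sylH hM).le)
  have h2 := (h.sylH hM).inf_of_le_normalizer (le_N_NC (A := Q))
  rw [h1, inf_of_le_right hKH] at h2
  set K := NC (X ⊓ C[Z]) Q with hK
  have hC0 : G0 ⊓ C[Z] ≤ X ⊓ C[Z] := inf_le_inf_right _ hG.le
  have hC0K : G0 ⊓ C[Z] ≤ N[K] := hC0.trans le_N_NC
  have hNZ : K ≤ N[Z] := hKH.trans (inf_le_right.trans (centralizer_le_normalizer _))
  have h3 : ∀ g ∈ K ⊓ N[Q], Is2 g → g ∈ Q := fun g hg h2' =>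
    h2.le_of_le_normalizer' (isPGroup_zpowers h2') (zpowers_le.2 hg.1) (zpowers_le.2 hg.2)
      (mem_zpowers g)
  have hC0N : ∀ c ∈ G0 ⊓ C[Z], c ∈ N[K ⊓ N[Q]] := fun c hc => N_inf (hC0K hc) (N_N (h.CQ hc))
  have h4 := hS.odd ((K ⊓ N[Q]) ⊓ G0) (le_inf (le_inf le_NC le_normalizer) (h.QU.trans h.UG))
    (fun g hg => ⟨hg.2, (hKH hg.1.1).2⟩) (fun c hc => N_inf (hC0N c hc) (le_normalizer hc.1))
    fun g hg => h3 g hg.1
  have hQC : Q ≤ CQ Q Z := fun x hx => ⟨le_normalizer hx, h.UZ (h.QU hx), fun _ hy => h.comQ hx hy⟩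
  have h5 : ∀ y ∈ K ⊓ N[Q], y ∈ N[G0] → ∀ u ∈ U, ⁅y, u⁆ ∈ Q := fun y hy hyM u hu => by
    have a1 := comm_mem_left (hC0N u (h.UC0 hu)) hy
    have a2 := h4 ⟨a1, comm_mem_right hyM (h.UG hu)⟩
    have e : y * u * y⁻¹ = ⁅y, u⁆ * u := by rw [commutatorElement_def]; group
    have a3 : y * u * y⁻¹ ∈ U := hM.syl.le_of_le_normalizer'
      (isPGroup_zpowers (Is2.conj (is2_of_mem h.U2 hu) y))
      (zpowers_le.2 (mul_mem (mul_mem (hKH hy.1).1 (hM.syl.le hu)) (inv_mem (hKH hy.1).1)))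
      (zpowers_le.2 (e ▸ mul_mem a2 (le_normalizer hu))) (mem_zpowers _)
    rw [← h1]
    exact ⟨U.mul_mem a3 (U.inv_mem hu), a1.1⟩
  have h6 : ∀ y ∈ K ⊓ N[Q], y ∈ N[G0] → y ∈ CQ Q Z := fun y hy hyM =>
    ⟨hy.2, hNZ hy.1, hS.scal y ⟨hy.2, (hKH hy.1).2⟩ fun c hc u hu => by
      have := conj_mem (h.CQ hc) (h5 _ (conj_mem (inv_mem (hC0N c hc)) hy)
        (conj_mem (inv_mem (N_N (le_normalizer hc.1))) hyM) u hu)
      have e : ⁅y, c * u * c⁻¹⁆ = c * ⁅c⁻¹ * y * c⁻¹⁻¹, u⁆ * c⁻¹ := by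
        simp only [commutatorElement_def]; group
      rw [e]
      exact (hQC this).2.2⟩
  have hNC : K ⊓ N[Q] ≤ N[CQ Q Z] := fun g hg => N_CQ hg.2 (hNZ hg.1)
  have h7 : ∀ g ∈ DD (G0 ⊓ C[Z]) t, ∀ y ∈ K ⊓ N[Q], ⁅y, g⁆ ∈ CQ Q Z := fun g hg =>
    cent_of_inv hNC (fun d hd => by
      obtain ⟨a1, a2, a3, a4, a5, -, a7⟩ := h.d0 hG hd
      have b1 : d ∈ N[K ⊓ N[Q]] := N_inf (N_NC (N_inf a7 (N_C a4)) a5) (N_N a5)
      refine ⟨b1, N_CQ a5 a4, fun y hy => ?_⟩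
      have hw := mul_mem (conj_mem b1 hy) (inv_mem hy)
      obtain ⟨j, hj⟩ := exists_odd_pow h3 hw
      obtain ⟨e1, e2⟩ := dih_dec (y := y) a1 j
      have hy1 := mul_mem (inv_mem (pow_mem hw j)) hy
      have := inv_mod hNC (N_CQ a5 a4) (pow_mem hw j) (h6 _ hy1 (Fix1.mem a3
        (e1 ▸ mul_mem (inv_mem (h.UM (h.QU hj))) a2))) e2
      simpa using this) hg
  intro n hn
  exact hS.scal n ⟨hn.2, (hKH hn.1).2⟩ fun c hc u hu =>
    (h7 _ (conj_mem (N_DD hc) (hS.ddU hu)) n hn).2.2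

theorem le_N_G0 (h : Loc0 G0 M0 U Q Z z t) (hG : Glob X G0 t) (hM : Mid X G0 M0 U z)
    (h1 : X ⊓ N[Z] ≤ N[Q]) (h2 : X ⊓ C1[z] ≤ N[Z]) : X ⊓ N[Z] ≤ N[G0] := by
  obtain ⟨n, hn, hnz, hgen⟩ := h.gen
  have key : ∀ g ∈ G0, ∀ k ∈ X ⊓ N[Z], ∃ m ∈ G0, ∃ k' ∈ X ⊓ N[Z], k * g = m * k' := by
    intro g hg
    have hg' := hgen hg
    rw [← mem_toSubmonoid, closure_toSubmonoid_of_finite] at hg'
    clear hg
    induction hg' using Submonoid.closure_induction with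
    | mem g hg =>
      intro k hk
      rcases hg with hg | rfl
      · exact ⟨1, one_mem _, k * g, mul_mem hk ⟨hG.le hg.1, hg.2⟩, by group⟩
      · obtain ⟨m, hm, e⟩ := hM.fus (k * g) z h.z_rt (by
          have := h.UM (h.QU (conj_mem (h1 hk) hnz))
          simpa [mul_assoc] using this)
        have hx : m⁻¹ * (k * g) ∈ X := mul_mem (inv_mem (hG.le hm)) (mul_mem hk.1 (hG.le hn))
        refine ⟨m, hm, _, ⟨hx, h2 ⟨hx, mem_C1.2 ?_⟩⟩, by group⟩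
        show _ * _ = _ * _
        calc m⁻¹ * (k * g) * z = m⁻¹ * (k * g * z * (k * g)⁻¹) * (k * g) := by group
          _ = _ := by rw [e]; group
    | one => exact fun k hk => ⟨1, one_mem _, k, hk, by group⟩
    | mul a b _ _ ha hb =>
      intro k hk
      obtain ⟨m, hm, k', hk', e⟩ := ha k hk
      obtain ⟨m', hm', k'', hk'', e'⟩ := hb k' hk'
      exact ⟨m * m', mul_mem hm hm', k'', hk'', by rw [← mul_assoc, e, mul_assoc, e', mul_assoc]⟩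
  intro k hk
  refine mem_N_of_conj fun x hx => closure_conj ?_ (h.genR hx)
  rintro _ ⟨g, hg, rfl⟩
  obtain ⟨m, hm, k', hk', e⟩ := key g hg k hk
  have e2 : k * (g * z * g⁻¹) * k⁻¹ = m * (k' * z * k'⁻¹) * m⁻¹ := by
    calc _ = k * g * z * (k * g)⁻¹ := by group
      _ = _ := by rw [e]; group
  rw [e2]
  exact mul_mem (mul_mem hm (h.UG (h.ZU (conj_mem hk'.2 h.zZ)))) (inv_mem hm)

theorem not_solvable {H : Subgroup G} (h : ⁅H, H⁆ = H) (h1 : H ≠ ⊥) : ¬ Group.IsSolvable H := by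
  intro hs
  haveI : Nontrivial H := (nontrivial_iff_ne_bot H).2 h1
  have h7 : (commutator H).map H.subtype = ⁅H, H⁆ := by
    rw [_root_.commutator_def, map_commutator, ← MonoidHom.range_eq_map, range_subtype]
  refine (Group.IsSolvable.commutator_lt_top_of_nontrivial H).ne (eq_top_iff.2 fun x _ => ?_)
  obtain ⟨y, hy, e⟩ := h7.ge (h.ge x.2)
  rwa [← Subtype.ext e]

theorem fin0 (hH : HoltStmt.{u}) (h : Loc0 G0 M0 U Q Z z t) (hG : Glob X G0 t)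
    (hM : Mid X G0 M0 U z) (h1 : X ⊓ N[Z] ≤ N[Q]) (h2 : X ⊓ C1[z] ≤ N[Z]) : G0 = X := by
  have h3 := le_N_G0 h hG hM h1 h2
  have hne : G0 ≠ ⊥ := fun e => h.z1 (mem_bot.1 (e ▸ h.zG))
  have hns := not_solvable h.perf hne
  haveI := hG.simple
  have hzX : z ∈ X := hG.le h.zG
  let f : G0 →* (N[G0]).subgroupOf X :=
    (inclusion hG.le).codRestrict _ fun g => le_normalizer g.2
  have hf : Function.Injective f := fun a b e =>
    Subtype.ext (congrArg (fun s : (N[G0]).subgroupOf X => s.1.1) e)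
  by_cases hP : (N[G0]).subgroupOf X = ⊤
  · haveI : (G0.subgroupOf X).Normal := ⟨fun a ha g =>
      conj_mem (H := G0) (g := (g : G)) (x := (a : G)) (hP.ge (mem_top g)) ha⟩
    rcases IsSimpleGroup.eq_bot_or_eq_top_of_normal (G0.subgroupOf X) inferInstance with e | e
    · exact absurd (congrArg Subtype.val (mem_bot.1 (e.le (show (⟨z, hzX⟩ : X) ∈ _ from h.zG)))) h.z1
    · exact le_antisymm hG.le (subgroupOf_eq_top.1 e)
  exfalso
  rcases hH (K := X) (fun hc => hns (Group.isSolvable_of_comm fun a b => Subtype.ext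
      (congrArg (fun s : X => (s : G)) (hc.is_comm.comm ⟨a, hG.le a.2⟩ ⟨b, hG.le b.2⟩)))) _ hP ⟨z, hzX⟩ (le_normalizer h.zG)
    ⟨by rw [← orderOf_coe]; exact orderOf_eq_prime (by rw [pow_two, h.Z2 z h.zZ]) h.z1,
      hM.syl.toSylow, h.zU, fun x hx => Subtype.ext (comm_of_C (h.UC hx) h.zZ).eq⟩
    (fun g hg => h3 ⟨g.2, h2 ⟨g.2, mem_C1.2 (congrArg Subtype.val (mem_C1.1 hg).eq)⟩⟩)
    (fun g hg => by
      obtain ⟨m, hm, e⟩ := hM.fus g z h.z_rt hg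
      exact ⟨⟨m, hG.le hm⟩, le_normalizer hm, Subtype.ext e.symm⟩) with ⟨S, hS⟩ | ⟨n, hn, ⟨e⟩⟩
  · have hz : (⟨z, hzX⟩ : X) ∈ (S : Subgroup X) := (isSylowIn_top S).le_of_le_normalizer'
      (isPGroup_zpowers (is2_of_sq (Subtype.ext (h.Z2 z h.zZ)))) le_top
      (zpowers_le.2 (hS.le (le_normalizer h.zG))) (mem_zpowers _)
    have hle : G0 ≤ (S : Subgroup X).map X.subtype := h.genR.trans ((closure_le _).2 (by
      rintro _ ⟨m, hm, rfl⟩
      exact ⟨_, conj_mem (hS.le (show (⟨m, hG.le hm⟩ : X) ∈ _ from le_normalizer hm)) hz, rfl⟩))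
    haveI := ((S.2.map X.subtype).to_le hle).isNilpotent
    exact hns inferInstance
  · by_cases h5 : n = 5
    · subst h5
      haveI : Group.IsSolvable (Equiv.Perm (Fin (5 - 1))) := H86.solvable_perm_of_le_four _ (by simp)
      exact hns (Group.isSolvable_of_isSolvable_injective (f := (Subgroup.subtype _).comp
        (e.toMonoidHom.comp f)) (Subtype.val_injective.comp (e.injective.comp hf)))
    · haveI := alternatingGroup.isSimpleGroup (α := Fin (n - 1)) (by simp; omega)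
      haveI := e.isSimpleGroup
      haveI : f.range.Normal := ⟨by
        rintro _ ⟨a, rfl⟩ g
        exact ⟨⟨_, conj_mem g.2 a.2⟩, rfl⟩⟩
      rcases IsSimpleGroup.eq_bot_or_eq_top_of_normal f.range inferInstance with e' | e'
      · exact h.z1 (congrArg Subtype.val (hf ((mem_bot.1 (e'.le ⟨⟨z, h.zG⟩, rfl⟩)).trans
          (map_one f).symm)))
      · exact h.nalt _ ⟨(MulEquiv.ofBijective f ⟨hf, MonoidHom.range_eq_top.1 e'⟩).trans e⟩

theorem jj : JStmt.{u} := fun _ _ _ _ _ _ _ _ h => j0 h.loc0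

theorem fin (hH : HoltStmt.{u}) : FinStmt.{u} := fun _ _ _ _ _ _ _ _ h => fin0 hH h.loc0

/-- The end game after the transfer step. -/
theorem end0 (hH : HoltStmt.{u}) (h : Loc0 G0 M0 U Q Z z t) (hG : Glob X G0 t)
    (hM : Mid X G0 M0 U z) (hJ : JP X U Q Z) : G0 = X :=
  fin0 hH h hG hM (nq0 h hG hM hJ) (nz0 h hG hM (nq0 h hG hM hJ))

end Cfsg.Agent.H27.End
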