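import Cfsg.Agent.H87.F4S2
import Cfsg.Agent.H38.F4Defs3

/-!
Standard subgroups of type `F₄(2ⁿ)`: from a mixed central element to a root element (the proof of
`H87.F4S2` for the corrected facts `RF5`).
-/

set_option autoImplicit false
set_option linter.unusedSectionVars false

namespace Cfsg.Agent.H27.F4S5

open Cfsg Cfsg.Agent.H63 Cfsg.Agent.H63.SL Cfsg.Agent.H63.WR Cfsg.Agent.H34 Cfsg.Agent.H40
  Cfsg.Agent.H40.LF Cfsg.Agent.H27.End Cfsg.Agent.H27.F4 Subgroup Equiv Cfsg.Agent.H38.F4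
open Cfsg.Agent.H87.F4S2 hiding normR delta core s2
open scoped commutatorElement

universe u v

variable {F : Type v} [Field F] {G : Type u} [Group G] {L : Subgroup G} {x x' : Φ4 → F → G} {t : G}

/-- An element moving `t` inside `t Z` and normalizing `Z` normalizes `R`. -/
theorem normR [Finite G] (c : Ctx4 L x t) (r : RF5 L x) {n z : G} (hz : z ∈ ZZ x)
    (hn : n ∈ N[ZZ x]) (e : n * t * n⁻¹ = t * z) : n ∈ N[RR x] := by
  have hRH : RR x ≤ L ⊓ C[ZZ x] := r.r3.trans (OC_le _)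
  have hR2 : IsPGroup 2 (RR x) := c.kit.syl.isPGroup.to_le (UU_le fun β hβ a => x_mem_UU (by
    have : ∀ β : Φ4, (1 ≤ co β 0 ∨ 1 ≤ co β 3) → R4.Pos β := by decide +kernel
    exact this β hβ) a)
  have hN : ∀ g ∈ N[L], g ∈ C[ZZ x] → g ∈ N[RR x] := fun g hg hgZ => by
    have hgH : ∀ y ∈ L ⊓ C[ZZ x], g * y * g⁻¹ ∈ L ⊓ C[ZZ x] := fun y hy =>
      ⟨N_conj hg hy.1, C[ZZ x].mul_mem (C[ZZ x].mul_mem hgZ hy.2) (inv_mem hgZ)⟩
    have hgH' := mem_N_of hgH
    refine mem_N_of fun y hy => r.r2 (cj g (RR x)) ?_ (isP_cj hR2 g) ?_ (conj_mem_cj'.2 hy)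
    · rintro _ ⟨w, hw, rfl⟩
      exact hgH w (hRH hw)
    · intro h hh
      refine mem_N_of fun w hw => ?_
      rw [mem_cj'] at hw ⊢
      have := N_conj (r.r1 (N_conj (inv_mem hgH') hh)) hw
      rwa [show g⁻¹ * (h * w * h⁻¹) * g = g⁻¹ * h * g⁻¹⁻¹ * (g⁻¹ * w * g) * (g⁻¹ * h * g⁻¹⁻¹)⁻¹ by
        group]
  have hcu : ∀ g, g * (t * z) = t * z * g → n⁻¹ * g * n ∈ C1[t] := fun g hg =>
    mem_centralizer_singleton_iff.2 (by
      rw [← e] at hg
      calc _ = n⁻¹ * (g * (n * t * n⁻¹)) * n := by group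
        _ = _ := by rw [hg]; group)
  have hH : cj n⁻¹ (L ⊓ C[ZZ x]) ≤ C1[t] := by
    rintro _ ⟨g, hg, rfl⟩
    have := hcu g (by
      rw [← mul_assoc, c.tc.tc g hg.1, mul_assoc, ← hg.2 z hz, mul_assoc])
    simpa using this
  have hP : cj n⁻¹ (RR x) ≤ L ⊓ C[ZZ x] := fun y hy => by
    refine ⟨c.oc _ hH y (mem_sup_left (cj_OC _ _ (map_mono r.r3 hy))) ?_, ?_⟩
    · obtain ⟨k, hk⟩ := isP_cj hR2 n⁻¹ ⟨y, hy⟩
      exact ⟨k, congrArg Subtype.val hk⟩
    · obtain ⟨w, hw, rfl⟩ := hy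
      exact C_conj (inv_mem hn) (hRH hw).2
  have := r.r2 _ hP (isP_cj hR2 _) fun h hh => by
    have h1 : n * h * n⁻¹ ∈ C[ZZ x] := C_conj hn hh.2
    have h2 : n * h * n⁻¹ ∈ N[L] := c.tc.cN (mem_centralizer_singleton_iff.2 (by
      have h3 : n * h * n⁻¹ * (t * z) = t * z * (n * h * n⁻¹) := by
        rw [← e, conj_mul, conj_mul, c.tc.tc h hh.1]
      rw [mul_assoc t z, h1 z hz, ← mul_assoc, ← mul_assoc t] at h3
      exact mul_right_cancel h3))
    refine mem_N_of fun w hw => ?_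
    rw [mem_cj'] at hw ⊢
    have := N_conj (hN _ h2 h1) hw
    rwa [show n⁻¹⁻¹ * (h * w * h⁻¹) * n⁻¹ = n * h * n⁻¹ * (n⁻¹⁻¹ * w * n⁻¹) * (n * h * n⁻¹)⁻¹ by
      group]
  exact inv_mem_iff.1 (mem_N_of fun y hy => this (conj_mem_cj'.2 hy))

theorem delta (h2 : ∀ a : F, a = 0 ∨ a = 1) (k : Kit4 (I1 F) L x) (r : RF5 L x) (ht : t ∈ C[L])
    {Γ : Subgroup G} (hY : YF x hs ≤ Γ) (hm : Cl Γ t (t * (x hl 1 * x hs 1)))
    (h47 : ¬ Cl Γ t (t * x hl 1)) {c : Fin 7 → F} (hc : ∃ j, j ≠ 0 ∧ c j ≠ 0) :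
    Cl Γ t (t * vc x c) ↔ qf c = 1 := by
  obtain ⟨y, hy, a, b, ha, hb, e⟩ := r.orb c hc
  have ha1 := (h2 a).resolve_left ha
  have : y * (t * vc x c) * y⁻¹ = t * (x hl 1 * x hs b) := by
    rw [← mul_assoc, ht y (UL k _ hy), ← ha1, ← e]; group
  rw [← Cl.conj (hY hy), this, ← hb]
  rcases h2 b with rfl | rfl
  · rw [x0 k.pin, mul_one]
    exact ⟨fun h => absurd h h47, fun h => absurd h (by simp)⟩
  · exact ⟨fun _ => one_pow 2, fun _ => hm⟩

theorem core (h2 : ∀ a : F, a = 0 ∨ a = 1) (k : Kit4 (I1 F) L x) (r : RF5 L x)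
    (k' : Kit4 (I1 F) L x') (r' : RF5 L x') (ht : t ∈ C[L]) {Γ : Subgroup G} (hY : YF x hs ≤ Γ)
    (hY' : YF x' hs ≤ Γ) (hm : Cl Γ t (t * (x hl 1 * x hs 1))) (h47 : ¬ Cl Γ t (t * x hl 1))
    (h47' : ¬ Cl Γ t (t * x' hl 1)) {n : G} (hn : n ∈ Γ)
    (e : n * t * n⁻¹ = t * (x' hl 1 * x' hs 1)) (hR : cj n (RR x) = RR x')
    (hX : cj n (XR x hl) = XR x' hl) (hZ : cj n (ZZ x) = ZZ x') : False := by
  set m : Fin 7 → F := ![1, 1, 0, 0, 0, 0, 0] with hmdef
  have hvm : vc x' m = x' hl 1 * x' hs 1 := vc_Z k'.pin (by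
    intro j h0 h1
    fin_cases j <;> simp_all)
  have ex : ∀ c : Fin 7 → F, c 2 = 0 → ∃ c', n * vc x c * n⁻¹ = vc x' c' := fun c hc => by
    have h1 : vc x c ∈ RR x := by
      have hx : ∀ β : Φ4, (1 ≤ co β 0 ∨ 1 ≤ co β 3) → ∀ a, x β a ∈ RR x :=
        fun β hβ a => x_mem_UU (A := {β | 1 ≤ co β 0 ∨ 1 ≤ co β 3}) hβ a
      unfold vc
      refine mul_mem (mul_mem (mul_mem (mul_mem (mul_mem (mul_mem ?_ ?_) ?_) ?_) ?_) ?_) ?_ <;>
        exact hx _ (by decide +kernel) _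
    have h3 := (r.r7 _ h1).2 ⟨c, hc, rfl⟩
    obtain ⟨c', -, e'⟩ := (r'.r7 (n * vc x c * n⁻¹) (hR ▸ conj_mem_cj'.2 h1)).1 fun u hu => by
      rw [← hR] at hu
      obtain ⟨w, hw, rfl⟩ := hu
      rw [← hX]
      exact ⟨_, h3 w hw, by simp [commutatorElement_def, mul_assoc]⟩
    exact ⟨c', e'⟩
  have val : ∀ c c' : Fin 7 → F, c 0 = 0 → c 1 = 0 → c ≠ 0 → n * vc x c * n⁻¹ = vc x' c' →
      qf (m + c') = qf c := fun c c' h0 h1 hc e' => by
    have hc1 : ∃ j, j ≠ 0 ∧ c j ≠ 0 := by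
      obtain ⟨j, hj⟩ := Function.ne_iff.1 hc
      exact ⟨j, fun h => hj (h ▸ h0), hj⟩
    have hc2 : ∃ j, j ≠ 0 ∧ (m + c') j ≠ 0 := by
      by_contra hh
      push Not at hh
      have h4 : vc x' c' ∈ ZZ x' := by
        rw [vc_Z k'.pin (fun j j0 j1 => by
          have := hh j j0
          fin_cases j <;> simp_all)]
        exact mul_mem (hlZ _) (hsZ _)
      rw [← e', ← hZ, conj_mem_cj'] at h4
      obtain ⟨a, b, h5⟩ := memZ k.pin h4
      have h6 : vc x (c + ![b, a, 0, 0, 0, 0, 0]) = 1 := by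
        rw [r.vc.1, h5, vc_Z k.pin (c := ![b, a, 0, 0, 0, 0, 0]) (by
          intro j j0 j1
          fin_cases j <;> simp_all)]
        change x hl a * x hs b * (x hl a * x hs b) = 1
        rw [mul_assoc, ← mul_assoc (x hs b), ← comLS k.pin, mul_assoc, xsq k.pin, mul_one,
          xsq k.pin]
      have h7 := r.vc.2.1 _ h6
      refine hc (funext fun j => ?_)
      have := congrFun h7 j
      fin_cases j <;> simp_all
    have d1 := delta h2 k r ht hY hm h47 hc1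
    have d2 := delta h2 k' r' ht hY' ⟨n, hn, e⟩ h47' hc2
    rw [r'.vc.1, hvm, ← mul_assoc, ← e, ← e', conj_mul, Cl.conj hn, d1] at d2
    rcases h2 (qf c) with a1 | a1 <;> rcases h2 (qf (m + c')) with a2 | a2
    · rw [a1, a2]
    · exact absurd (a1 ▸ d2.2 a2) zero_ne_one
    · exact absurd (a2 ▸ d2.1 a1) zero_ne_one
    · rw [a1, a2]
  obtain ⟨p, hp⟩ := ex ![0, 0, 0, 0, 1, 0, 0] rfl
  obtain ⟨q, hq⟩ := ex ![0, 0, 0, 0, 0, 1, 0] rfl
  obtain ⟨s, hs'⟩ := ex ![0, 0, 0, 0, 0, 0, 1] rfl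
  have ad : ∀ {c d c' d' : Fin 7 → F}, n * vc x c * n⁻¹ = vc x' c' → n * vc x d * n⁻¹ = vc x' d' →
      n * vc x (c + d) * n⁻¹ = vc x' (c' + d') := fun h1 h3 => by
    rw [r.vc.1, r'.vc.1, ← h1, ← h3, conj_mul]
  have := third m p q s
  rw [val _ _ rfl rfl (fun h => by simpa using congrFun h 4) hp,
    val _ _ rfl rfl (fun h => by simpa using congrFun h 5) hq,
    val _ _ rfl rfl (fun h => by simpa using congrFun h 6) hs',
    val _ _ (by simp) (by simp) (fun h => by simpa using congrFun h 4) (ad hp hq),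
    val _ _ (by simp) (by simp) (fun h => by simpa using congrFun h 4) (ad hp hs'),
    val _ _ (by simp) (by simp) (fun h => by simpa using congrFun h 5) (ad hq hs'),
    val _ _ (by simp) (by simp) (fun h => by simpa using congrFun h 4) (ad (ad hp hq) hs')] at this
  simp [qf, hmdef] at this

theorem s2 : S2Stmt5.{u, v} := by
  intro F _ _ G _ _ L x t c c' r r' z hz hz1 n hn e
  have pin := c.kit.pin
  have tt : t * t = 1 := by rw [← pow_two, ← c.tc.t2, pow_orderOf_eq_one]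
  have t1 : t ≠ 1 := fun h => by simpa [h] using c.tc.t2
  have r6 := (r.r6 t c.tc.tc tt t1 n hn).2
  have hZ := cj_ZZ r6
  have hR := normR c r hz (N_of_cj hZ) e
  have top : ∀ y, ¬ y ∈ Dt t → ¬ Cl ⊤ t y := fun y h ⟨g, _, e⟩ => h ⟨g, e.symm⟩
  refine ⟨?_, fun hq hzs => ?_⟩
  · obtain ⟨a, b, rfl⟩ := memZ pin hz
    by_cases ha : a = 0
    · subst ha
      rw [x0 pin, one_mul] at hz1 e
      exact ⟨b, fun h => hz1 (by rw [h, x0 pin]), Or.inr ⟨n, e.symm⟩⟩
    by_cases hb : b = 0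
    · subst hb
      rw [x0 pin, mul_one] at e
      exact ⟨a, ha, Or.inl ⟨n, e.symm⟩⟩
    by_cases h2 : ∀ a : F, a = 0 ∨ a = 1
    · by_contra hcon
      push Not at hcon
      obtain ⟨n1, n2⟩ := hcon 1 one_ne_zero
      rw [(h2 a).resolve_left ha, (h2 b).resolve_left hb] at e
      rcases r6 with ⟨h3, -⟩ | ⟨h3, -⟩
      · exact core h2 c.kit r c.kit r c.tc.tc le_top le_top ⟨n, mem_top _, e⟩ (top _ n1) (top _ n1)
          (mem_top n) e (cj_N hR) h3 hZ
      · have d1 : du x hl = x hs := du_eq h2 hl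
        have d2 : du x hs = x hl := du_eq h2 hs
        refine core h2 c.kit r c'.kit r' c.tc.tc le_top le_top ⟨n, mem_top _, e⟩ (top _ n1)
          (by rw [d1]; exact top _ n2) (mem_top n) (by rw [d1, d2, ← comLS pin, e]) ?_ ?_ ?_
        · rw [cj_N hR]
          exact (du_UU h2 (by
            change ∀ β : Φ4, (1 ≤ co β 0 ∨ 1 ≤ co β 3) → 1 ≤ co (rho β) 0 ∨ 1 ≤ co (rho β) 3
            decide +kernel)).symm
        · rw [h3, XR, XR, d1]
        · rw [hZ]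
          exact (du_UU h2 (by
            rintro β (rfl | rfl)
            exacts [Or.inr rfl, Or.inl rfl])).symm
    · push Not at h2
      obtain ⟨d, d0, d1⟩ := h2
      set h := h4 (I1 F) x 24 (Units.mk0 d d0) with hh
      have hL : h ∈ L := by
        rw [hh, h4, n4, n4]
        exact mul_mem (mul_mem (mul_mem (xL c.kit _ _) (xL c.kit _ _)) (xL c.kit _ _))
          (mul_mem (mul_mem (xL c.kit _ _) (xL c.kit _ _)) (xL c.kit _ _))
      have a1 := c.kit.act.h 24 hl (Units.mk0 d d0) (fun _ => rfl) a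
      have a2 := c.kit.act.h 24 hs (Units.mk0 d d0) (fun _ => rfl) b
      rw [show e1 24 hl = 1 by decide +kernel, show e2 24 hl = 0 by decide +kernel] at a1
      rw [show e1 24 hs = 0 by decide +kernel, show e2 24 hs = 0 by decide +kernel] at a2
      simp only [zpow_one, zpow_zero, Units.val_one, map_one, mul_one, one_mul, Units.val_mk0,
        ← hh] at a1 a2
      have a3 : n⁻¹ * h * n * t * (n⁻¹ * h * n)⁻¹ = t * (n⁻¹ * x hl (a + d * a) * n) := by
        calc _ = n⁻¹ * (h * (n * t * n⁻¹) * h⁻¹) * n := by group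
          _ = n⁻¹ * (t * ((h * x hl a * h⁻¹) * (h * x hs b * h⁻¹))) * n := by
            rw [e, ← mul_assoc h, c.tc.tc h hL]; group
          _ = n⁻¹ * (t * (x hl a * x hs b) * x hl (a + d * a)) * n := by
            rw [a1, a2, mul_assoc t, mul_assoc (x hl a), ← comLS pin, ← mul_assoc (x hl a),
              ← xadd pin, ← add_assoc, ← two_mul, pin.two, zero_mul, zero_add]
          _ = _ := by rw [← e]; group
      have a4 : a + d * a ≠ 0 := fun h0 => d1 (by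
        have : (d - 1) * a = 0 := by
          linear_combination h0 - a * pin.two
        exact sub_eq_zero.1 ((mul_eq_zero.1 this).resolve_right ha))
      have a5 : ∀ s a', n⁻¹ * x hl (a + d * a) * n = x s a' → a' ≠ 0 := fun s a' h0 h1 => by
        rw [h1, x0 pin] at h0
        exact a4 (pin.inj hl _ (fun _ => rfl) (by
          calc _ = n * (n⁻¹ * x hl (a + d * a) * n) * n⁻¹ := by group
            _ = 1 := by rw [h0]; group))
      rcases r6 with ⟨h3, -⟩ | ⟨-, h3⟩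
      · obtain ⟨a', ha'⟩ := memX pin (mem_cj'.1 (h3 ▸ x_mem_XR hl (a + d * a)))
        exact ⟨a', a5 _ _ ha', Or.inl ⟨_, by rw [a3, ha']⟩⟩
      · obtain ⟨a', ha'⟩ := memX pin (mem_cj'.1 (h3 ▸ x_mem_XR hl (a + d * a)))
        exact ⟨a', a5 _ _ ha', Or.inr ⟨_, by rw [a3, ha']⟩⟩
  · subst hzs
    have h2 : ∀ a : F, a = 0 ∨ a = 1 := fun a => by
      obtain ⟨y, -, hy⟩ := (Nat.card_eq_two_iff' (0 : F)).1 hq
      by_cases h : a = 0
      · exact Or.inl h
      · exact Or.inr ((hy a h).trans (hy 1 one_ne_zero).symm)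
    rcases r6 with ⟨-, h3⟩ | ⟨h3, h4⟩
    · refine ⟨n, mem_centralizer_singleton_iff.2 ?_, e⟩
      rw [← mul_inv_eq_iff_eq_mul, one_of h2 pin h3]
    · have b1 := one_of h2 pin h3
      have b2 := one_of h2 pin h4
      have m1 : n * n ∈ C1[x hs 1] := mem_centralizer_singleton_iff.2 (by
        rw [← mul_inv_eq_iff_eq_mul]
        calc _ = n * (n * x hs 1 * n⁻¹) * n⁻¹ := by group
          _ = _ := by rw [b2, b1])
      have m2 : n * n * t * (n * n)⁻¹ = t * (x hl 1 * x hs 1) := by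
        calc _ = n * (n * t * n⁻¹) * n⁻¹ := by group
          _ = (n * t * n⁻¹) * (n * x hs 1 * n⁻¹) := by rw [conj_mul, ← e]
          _ = _ := by rw [e, b2, comLS pin, mul_assoc]
      by_contra hcon
      have n2 : ¬ Cl C1[x hs 1] t (t * x hs 1) := hcon
      have n1 : ¬ Cl C1[x hs 1] t (t * x hl 1) := by
        rw [← Cl.conj m1, ← conj_mul, m2,
          (mul_inv_eq_iff_eq_mul.2 (mem_centralizer_singleton_iff.1 m1))] at n2
        rwa [mul_assoc, mul_assoc, xsq pin, mul_one] at n2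
      refine core h2 c.kit r c.kit r c.tc.tc (comY pin 1) (comY pin 1) ⟨_, m1, m2⟩ n1 n1 m1 m2
        (cj_N (mul_mem hR hR)) ?_ (cj_N (mul_mem (N_of_cj hZ) (N_of_cj hZ)))
      ext y
      nth_rewrite 2 [← h4]
      rw [← h3, mem_cj', mem_cj', mem_cj', mul_inv_rev]
      simp only [mul_assoc]

end Cfsg.Agent.H27.F4S5
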