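import Cfsg.Agent.H78.G40A

/-! The centraliser of the involution `t` in the basic frame. -/

set_option autoImplicit false

namespace Cfsg.Agent.H27.G40Cx

open Subgroup Cfsg.Agent.H83 Cfsg.Agent.H46.L40 Cfsg.Agent.H78.G40
open Cfsg.Agent.H46.S94 (Cx)

universe u

variable {G : Type u} [Group G] [Finite G]

theorem exists_odd {D : Subgroup G} {t : G} (tt : t * t = 1) (hS : IsSylowIn 2 (zpowers t) D)
    (hD : ∀ x ∈ D, x * t = t * x) : ∃ O : Subgroup G, Odd (Nat.card O) ∧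
      (∀ x, x ∈ O ↔ x ∈ D ∧ Odd (orderOf x)) ∧ ∀ x ∈ D, x ∈ O ∨ x * t ∈ O := by
  have hP : normalizer ((hS.toSylow : Subgroup D) : Set D) ≤
      centralizer ((hS.toSylow : Subgroup D) : Set D) := fun x _ y hy => by
    obtain ⟨k, hk⟩ := mem_zpowers_iff.1 (mem_subgroupOf.1 hy)
    exact Subtype.ext (by
      rw [coe_mul, coe_mul, ← hk]; exact ((show Commute (x : G) t from hD x x.2).zpow_right k).symm)
  have hc := MonoidHom.ker_transferSylow_isComplement' hS.toSylow hP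
  have ho := MonoidHom.not_dvd_card_ker_transferSylow hS.toSylow hP
  set K := (MonoidHom.transferSylow hS.toSylow hP).ker with hK
  have hodd : Odd (Nat.card (K.map D.subtype)) := by
    rw [card_map_of_injective D.subtype_injective]
    exact Nat.odd_iff.2 (Nat.two_dvd_ne_zero.1 ho)
  refine ⟨K.map D.subtype, hodd, fun x => ⟨fun hx => ⟨map_subtype_le _ hx,
    hodd.of_dvd_nat (orderOf_dvd_natCard _ hx)⟩, fun hx => ⟨⟨x, hx.1⟩, ?_, rfl⟩⟩, fun x hx => ?_⟩
  · obtain ⟨k, hk⟩ := IsPGroup.iff_orderOf.1 hS.toSylow.isPGroup'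
      (MonoidHom.transferSylow hS.toSylow hP ⟨x, hx.1⟩)
    have h1 := orderOf_map_dvd (MonoidHom.transferSylow hS.toSylow hP) ⟨x, hx.1⟩
    rw [hk, orderOf_mk] at h1
    have h2 := hx.2.of_dvd_nat h1
    rcases k with _ | k
    · exact orderOf_eq_one_iff.1 hk
    · exact absurd h2 (by simp [pow_succ])
  · obtain ⟨⟨k, p⟩, e⟩ := hc.2 ⟨x, hx⟩
    have e' : (k.1 : G) * p.1 = x := congrArg Subtype.val e
    obtain ⟨n, hn⟩ := mem_zpowers_iff.1 (mem_subgroupOf.1 p.2)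
    have t2 : t ^ (2 : ℤ) = 1 := by rw [zpow_two, tt]
    rcases Int.even_or_odd' n with ⟨j, rfl | rfl⟩
    · rw [zpow_mul, t2, one_zpow] at hn
      exact Or.inl ⟨k.1, k.2, by rw [← e', ← hn, mul_one]; rfl⟩
    · rw [zpow_add, zpow_mul, t2, one_zpow, one_mul, zpow_one] at hn
      exact Or.inr ⟨k.1, k.2, by rw [← e', ← hn, mul_assoc, tt, mul_one]; rfl⟩

theorem cx : CxS.{u} := by
  intro G _ _ f
  have tt : f.t * f.t = 1 := by rw [← pow_two, ← f.t2, pow_orderOf_eq_one]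
  have nj : ∀ c, c * f.t = f.t * c → c ∈ normalizer (f.φ.range : Set G) := fun c hc =>
    mem_normalizer_fintype (by
      rintro _ ⟨x, rfl⟩
      obtain ⟨m, h | h⟩ := f.aut c hc <;> exact ⟨_, (h x).symm⟩)
  obtain ⟨O, h1, h2, h3⟩ := exists_odd (D := centralizer (f.φ.range : Set G) ⊓ centralizer {f.t}) tt
    (f.sylK.mono (le_inf f.sylK.le (zpowers_le.2 (mem_centralizer_singleton_iff.2 rfl))) inf_le_left)
    fun x hx => mem_centralizer_singleton_iff.1 hx.2
  refine ⟨O, f.inj, tt, fun e => by have := f.t2; rw [e, orderOf_one] at this; omega,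
    fun a => (f.tL a).symm, nj, fun c hc hK => h3 c ⟨hK, mem_centralizer_singleton_iff.2 hc⟩, h1,
    fun o ho => ((h2 o).1 ho).1.1, fun o ho => mem_centralizer_singleton_iff.1 ((h2 o).1 ho).1.2,
    fun c hc => mem_normalizer_fintype fun o ho => ?_⟩
  obtain ⟨⟨k1, k2⟩, k3⟩ := (h2 o).1 ho
  have hc' : c ∈ centralizer ({f.t} : Set G) := mem_centralizer_singleton_iff.2 hc
  refine (h2 _).2 ⟨⟨fun y hy => ?_,
    Subgroup.mul_mem _ (Subgroup.mul_mem _ hc' k2) (Subgroup.inv_mem _ hc')⟩, ?_⟩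
  · have := k1 _ ((mem_normalizer_iff''.1 (nj c hc) y).1 hy)
    calc y * (c * o * c⁻¹) = c * (c⁻¹ * y * c * o) * c⁻¹ := by group
      _ = c * o * c⁻¹ * y := by rw [this]; group
  · rwa [← (SemiconjBy.conj_mk c o).orderOf_eq]

end Cfsg.Agent.H27.G40Cx
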