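import Cfsg.Agent.H78.G40B

/-! The centraliser of the four-group of diagonal matrices in `L₄(3)`. -/

set_option autoImplicit false

namespace Cfsg.Agent.H27.G40F1e

open Subgroup Matrix Cfsg.Agent.H46.L40 Cfsg.Agent.H78.G40

def zv : Fin 4 → ZMod 3 := ![2, 2, 1, 1]
def av : Fin 4 → ZMod 3 := ![1, 2, 2, 1]
def sg (b : Bool) : ZMod 3 := cond b 2 1
def pt : Bool → Bool → Fin 4 → Fin 4
  | false, false => ![0, 1, 2, 3]
  | false, true => ![1, 0, 3, 2]
  | true, false => ![3, 2, 1, 0]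
  | true, true => ![2, 3, 0, 1]

/-- monomial matrices -/
def mo (s t : Bool) (d : Fin 4 → ZMod 3) : Matrix (Fin 4) (Fin 4) (ZMod 3) :=
  of fun i j => if j = pt s t i then d i else 0

def mm (k : Bool × Bool × Bool × Bool) : SL4 :=
  ⟨mo k.1 k.2.1 ![1, sg k.2.2.1, sg k.2.2.2, sg k.2.2.1 * sg k.2.2.2], by revert k; decide +kernel⟩

theorem hz : (E1 z0).1 = diagonal zv := by decide +kernel
theorem ha : (E1 a0).1 = diagonal av := by decide +kernel

theorem van : ∀ (s t : Bool) (i j : Fin 4) (x : ZMod 3), zv i * x = sg s * (x * zv j) →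
    av i * x = sg t * (x * av j) → j ≠ pt s t i → x = 0 := by decide +kernel

theorem lst : ∀ (s t : Bool) (a b c d : ZMod 3), (mo s t ![a, b, c, d]).det = 1 →
    ∃ p q, mo s t ![a, b, c, d] = (mm (s, t, p, q)).1 ∨ mo s t ![a, b, c, d] = -(mm (s, t, p, q)).1 := by
  decide +kernel

theorem sign {g x : SL4} {v : Fin 4 → ZMod 3} (hx : x.1 = diagonal v)
    (h : mk1 x * mk1 g = mk1 g * mk1 x) : ∃ s, ∀ i j, v i * g.1 i j = sg s * (g.1 i j * v j) := by
  rw [← map_mul, ← map_mul, mk1_eq] at h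
  change x.1 * g.1 = g.1 * x.1 ∨ x.1 * g.1 = -(g.1 * x.1) at h
  rw [hx] at h
  rcases h with h | h
  · exact ⟨false, fun i j => by simpa [sg] using congrFun (congrFun h i) j⟩
  · refine ⟨true, fun i j => ?_⟩
    have := congrFun (congrFun h i) j
    rw [diagonal_mul, neg_apply, mul_diagonal] at this
    rw [this, show sg true = -1 by decide, neg_one_mul]

theorem mem_iff (y : X1) : y ∈ centralizer (V0.map e1 : Set X1) ↔ ∃ k, mk1 (mm k) = y := by
  constructor
  · intro h
    obtain ⟨g, rfl⟩ := QuotientGroup.mk'_surjective _ y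
    obtain ⟨s, hs⟩ := sign hz (h _ ⟨z0, subset_closure (by simp), rfl⟩)
    obtain ⟨t, ht⟩ := sign ha (h _ ⟨a0, subset_closure (by simp), rfl⟩)
    have e : g.1 = mo s t ![g.1 0 (pt s t 0), g.1 1 (pt s t 1), g.1 2 (pt s t 2), g.1 3 (pt s t 3)] := by
      ext i j
      rw [mo, of_apply]
      split_ifs with hj
      · rw [hj]; fin_cases i <;> rfl
      · exact van s t i j _ (hs i j) (ht i j) hj
    obtain ⟨p, q, hk⟩ := lst s t _ _ _ _ (e ▸ g.2)
    rw [← e] at hk
    exact ⟨_, ((mk1_eq _ _).2 hk).symm⟩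
  · rintro ⟨k, rfl⟩
    rw [V0, MonoidHom.map_closure, centralizer_closure]
    rintro _ ⟨x, hx, rfl⟩
    show mk1 (E1 x) * mk1 (mm k) = mk1 (mm k) * mk1 (E1 x)
    rw [← map_mul, ← map_mul, mk1_eq]
    rcases hx with rfl | rfl <;> revert k <;> decide +kernel

theorem inj : Function.Injective fun k => mk1 (mm k) := fun k k' h => by
  rw [mk1_eq] at h
  revert k k'
  decide +kernel

theorem tw : ∀ k, ∃ v ∈ [1, z0, a0, z0 * a0], (mm k * E1 v).1 = (T1 (mm k)).1 ∨
    (mm k * E1 v).1 = -(T1 (mm k)).1 := by decide +kernel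

theorem f1e : F1eS := by
  refine ⟨?_, fun y hy => ?_, fun y hy => ?_, ⟨_, (mem_iff _).2 ⟨(true, true, false, false), rfl⟩, ?_⟩⟩
  · rw [← show Nat.card (Bool × Bool × Bool × Bool) = 16 by simp, ← Nat.card_range_of_injective inj]
    exact Nat.card_congr (Equiv.subtypeEquivRight mem_iff)
  · obtain ⟨k, rfl⟩ := (mem_iff y).1 hy
    rw [← map_mul, ← map_one mk1, mk1_eq]
    clear hy
    revert k
    decide +kernel
  · obtain ⟨k, rfl⟩ := (mem_iff y).1 hy
    obtain ⟨v, hv, h⟩ := tw k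
    have hz' : z0 ∈ V0 := subset_closure (by simp)
    have ha' : a0 ∈ V0 := subset_closure (by simp)
    refine ⟨v, ?_, ?_⟩
    · simp only [List.mem_cons, List.not_mem_nil, or_false] at hv
      rcases hv with rfl | rfl | rfl | rfl
      exacts [one_mem _, hz', ha', mul_mem hz' ha']
    · rw [eq_inv_mul_iff_mul_eq]
      exact (map_mul mk1 _ _).symm.trans ((mk1_eq _ _).2 h)
  · intro h
    exact absurd ((mk1_eq (T1 (mm (true, true, false, false))) _).1 h) (by decide +kernel)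

end Cfsg.Agent.H27.G40F1e
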