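import Cfsg.Agent.H76.K4Defs

set_option autoImplicit false

namespace Cfsg.Agent.H27.K4Data

open Cfsg Cfsg.Agent.H17 Cfsg.Agent.H23.SecT Cfsg.Agent.H23.KL Cfsg.Agent.H76.K4
open scoped Classical ComplexConjugate

universe u

theorem aux {I : Type u} (σ : I → I) (a m n : I → ℤ) (hσ : ∀ i, σ (σ i) = i)
    (ha : ∀ i, a (σ i) = a i) (hn : ∀ i, n i = 0 → n (σ i) = 0)
    (hc : ∀ i, (n i = 0 ∧ σ i ≠ i) ∨ n i = 1 ∨ n i = -1) (c d e : I) (hce : c ≠ e) (hde : d ≠ e)
    (hS : σ e = c ∨ σ e = d ∨ σ e = e) (h1 : σ c = d) (h0 : n c = 0)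
    (h2 : a c * n c + a d * n d + a e * n e = 0) (h3 : a c * m c + a d * m d + a e * m e = -1) :
    a c ^ 2 + a d ^ 2 + a e ^ 2 = 2 := by
  have hd : n d = 0 := h1 ▸ hn c h0
  have had : a d = a c := h1 ▸ ha c
  have hae : a e = 0 := by
    rcases hc e with ⟨-, h⟩ | h | h
    · exfalso
      rcases hS with h4 | h4 | h4
      · apply hde; rw [← h1, ← h4, hσ]
      · apply hce; rw [← hσ c, h1, ← h4, hσ]
      · exact h h4
    · rw [h0, hd, h] at h2; linarith
    · rw [h0, hd, h] at h2; linarith
  rw [had, hae] at h3 ⊢
  have : a c ∣ 1 := ⟨-(m c + m d), by linear_combination h3⟩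
  rcases Int.isUnit_iff.mp (isUnit_of_dvd_one this) with h | h <;> rw [h] <;> norm_num

theorem data (set : SetStmt.{u}) : DataStmt.{u} := by
  intro G _ _ p _ M hM hk hl P
  letI := Fintype.ofFinite G
  haveI := H13.finite_irrCharacter (G := G)
  letI := Fintype.ofFinite (IrrCharacter G)
  have hB : IsPBlock M (principalBlock M G) := H17.isPBlock_principalBlock
  have hD := H17.dg_principal hM P
  have h2 := H17.dg_card hM hB hD
  have hd : blockDefect p (principalBlock M G) ≠ 0 := fun h0 => by
    have := H21.card_eq_one_of_defect_zero hM hB h0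
    omega
  have hP : (P : Subgroup G) ≠ ⊥ := fun e => by
    rw [e, Subgroup.card_bot] at h2
    exact hd ((Nat.pow_eq_one.mp h2.symm).resolve_left (Fact.out : p.Prime).one_lt.ne')
  obtain ⟨u, a, m, ha, h1, h3, h4, h5, h6⟩ := set G p M hM (by omega) P hP
  have htr : H21.triv G ∈ fB (principalBlock M G) := mem_fB.mpr (H21.triv_mem_principal hM.2.1)
  have hc : (fB (principalBlock M G)).card = 4 := by
    rw [← hk, Nat.card_eq_fintype_card, Fintype.card_subtype]
  have hc2 : ((fB (principalBlock M G)).erase (H21.triv G)).card = 3 := by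
    rw [Finset.card_erase_of_mem htr, hc]
  obtain ⟨c, d, e, hcd, hce, hde, he⟩ := Finset.card_eq_three.mp hc2
  have hsum : ∀ {R : Type} [AddCommMonoid R] (f : IrrCharacter G → R),
      ∑ ξ ∈ fB (principalBlock M G), f ξ = f (H21.triv G) + (f c + (f d + f e)) := by
    intro R _ f
    rw [← Finset.add_sum_erase _ _ htr, he, Finset.sum_insert (by simp [hcd, hce]),
      Finset.sum_pair hde]
  have a1 : a (H21.triv G) = 1 := by
    have := ha (H21.triv G)
    rw [H21.triv_apply] at this
    exact_mod_cast this.symm
  have hmem : ∀ χ, χ ∈ (fB (principalBlock M G)).erase (H21.triv G) ↔ χ = c ∨ χ = d ∨ χ = e := by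
    intro χ; rw [he]; simp
  have tc : H21.triv G ≠ c := (Finset.mem_erase.mp ((hmem c).mpr (by simp))).1.symm
  have td : H21.triv G ≠ d := (Finset.mem_erase.mp ((hmem d).mpr (by simp))).1.symm
  have te : H21.triv G ≠ e := (Finset.mem_erase.mp ((hmem e).mpr (by simp))).1.symm
  rw [hsum, a1] at h1 h3
  rw [h4] at h3
  refine ⟨a c, a d, a e, m c, m d, m e, by linear_combination -h1, by linear_combination h3,
    fun w1 w2 w3 => ?_, fun hp2 => ?_⟩
  · have := h6 (fun χ => if χ = c then w1 else if χ = d then w2 else if χ = e then w3 else 0)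
      (by simp [tc, td, te])
    rw [hsum, hsum] at this
    simp only [if_neg tc, if_neg td, if_neg te, if_pos rfl, if_neg hcd.symm, if_neg hce.symm,
      if_neg hde.symm, if_true] at this
    linear_combination this
  · have h7 := h5 hp2
    choose n hn hn' using fun χ : IrrCharacter G => nu_cases χ
    rw [hsum, a1, nu_triv, hn, hn, hn] at h7
    have h8 : a c * n c + a d * n d + a e * n e = 0 := by
      have : ((a c * n c + a d * n d + a e * n e : ℤ) : ℂ) = ((0 : ℤ) : ℂ) := by
        push_cast at h7 ⊢; linear_combination h7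
      exact_mod_cast this
    have hσ : ∀ χ : IrrCharacter G,
        H19.galIrr starRingAut (H19.galIrr starRingAut χ) = χ := fun χ => by
      apply Subtype.ext; funext g
      exact Complex.conj_conj (χ.1 g)
    have haσ : ∀ χ : IrrCharacter G, a (H19.galIrr starRingAut χ) = a χ := fun χ => by
      have h : (H19.galIrr starRingAut χ).1 u = conj (χ.1 u) := rfl
      rw [ha, ha, map_intCast] at h
      exact_mod_cast h
    have hnσ : ∀ χ : IrrCharacter G, n χ = 0 → n (H19.galIrr starRingAut χ) = 0 := fun χ h0 => by
      have h : nu (H19.galIrr starRingAut χ) = conj (nu χ) := by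
        rw [nu, nu, map_mul, map_sum, map_inv₀, map_natCast]; rfl
      rw [hn, hn, h0, map_intCast] at h
      exact_mod_cast h
    have hcl : ∀ χ : IrrCharacter G, (χ = c ∨ χ = d ∨ χ = e) → (H19.galIrr starRingAut χ = c ∨
        H19.galIrr starRingAut χ = d ∨ H19.galIrr starRingAut χ = e) := fun χ hχ => by
      have hm := (hmem χ).mpr hχ
      refine (hmem _).mp (Finset.mem_erase.mpr ⟨fun e => (Finset.mem_erase.mp hm).1 ?_, mem_fB.mpr
        ((H19.galIrr_mem_principalBlock_iff _).mpr (mem_fB.mp (Finset.mem_erase.mp hm).2))⟩)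
      apply Subtype.ext; funext g
      have : conj (χ.1 g) = 1 := congrFun (congrArg Subtype.val e) g
      rw [H21.triv_apply, ← Complex.conj_conj (χ.1 g), this, map_one]
    have fin : a c ^ 2 + a d ^ 2 + a e ^ 2 = 2 → Nat.card (P : Subgroup G) = 3 := fun h => by
      have : ((Nat.card (P : Subgroup G) : ℕ) : ℤ) = 3 := by linear_combination h - h1
      exact_mod_cast this
    have A := aux (H19.galIrr starRingAut) a m n hσ haσ hnσ hn'
    have Sc := hcl c (by simp)
    have Sd := hcl d (by simp)
    have Se := hcl e (by simp)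
    by_cases z1 : n c = 0
    · right
      have hne : H19.galIrr starRingAut c ≠ c := by
        rcases hn' c with h | h | h
        · exact h.2
        all_goals omega
      rcases Sc with h | h | h
      · exact absurd h hne
      · exact fin (A c d e hce hde Se h z1 h8 (by linear_combination h3))
      · exact fin (by
          linear_combination A c e d hcd hde.symm (by tauto) h z1 (by linear_combination h8)
            (by linear_combination h3))
    by_cases z2 : n d = 0
    · right
      have hne : H19.galIrr starRingAut d ≠ d := by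
        rcases hn' d with h | h | h
        · exact h.2
        all_goals omega
      rcases Sd with h | h | h
      · exact absurd (h ▸ hnσ d z2) z1
      · exact absurd h hne
      · exact fin (by
          linear_combination A d e c hcd.symm hce.symm (by tauto) h z2 (by linear_combination h8)
            (by linear_combination h3))
    by_cases z3 : n e = 0
    · exfalso
      have hne : H19.galIrr starRingAut e ≠ e := by
        rcases hn' e with h | h | h
        · exact h.2
        all_goals omega
      rcases Se with h | h | h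
      · exact z1 (h ▸ hnσ e z3)
      · exact z2 (h ▸ hnσ e z3)
      · exact hne h
    left
    have sq : ∀ χ, n χ ≠ 0 → n χ ^ 2 = 1 := fun χ h0 => by
      rcases hn' χ with h | h | h
      · exact absurd h.1 h0
      all_goals rw [h]; norm_num
    exact ⟨n c, n d, n e, sq c z1, sq d z2, sq e z3, by linear_combination h8⟩

end Cfsg.Agent.H27.K4Data
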