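import Cfsg.Agent.H48.M2Defs

/-! The line attached to an involution of `JJ` outside `TT`. -/

set_option autoImplicit false

namespace Cfsg.Agent.H48.M2

open Cfsg Subgroup Cfsg.Agent.H48 Cfsg.Agent.H48.Rec Cfsg.Agent.H49 Cfsg.Agent.H95.Par
open Cfsg.Agent.H97.Gr (DD ZZ)
open Cfsg.Agent.H97.Yt (M)

namespace BW

theorem card_two {G : Type*} [Group G] {W X : Subgroup G} (le : W ≤ X) {w : G} (hw : w ∈ X)
    (hn : w ∉ W) (h : ∀ u ∈ X, u ∈ W ∨ u * w ∈ W) : Nat.card W * 2 = Nat.card X := by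
  have h2 : (W.subgroupOf X).index = 2 := by
    rw [index_eq_two_iff]
    refine ⟨⟨w, hw⟩, fun b => ?_⟩
    simp only [mem_subgroupOf, coe_mul]
    rcases h b b.2 with hb | hb
    · exact Or.inr ⟨hb, fun e => hn ((W.mul_mem_cancel_left hb).1 e)⟩
    · exact Or.inl ⟨hb, fun e => hn ((W.mul_mem_cancel_left e).1 hb)⟩
  rw [← h2, ← Nat.card_congr (subgroupOfEquivOfLe le).toEquiv, card_mul_index]

theorem mem_TT {w w' x : M} (hx : x ∈ JJ w w') (h : x ∈ Ak w w' ∨ w' * x ∈ Ak w w') :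
    x ∈ TT w w' := by
  refine ⟨hx, ?_⟩
  rcases h with h | h
  · exact mem_sup_left h
  · exact (Subgroup.mul_mem_cancel_left (Ak w w' ⊔ zpowers w') (mem_sup_right (mem_zpowers w'))).1
      (mem_sup_left h)

theorem sp (bu : BuStmt) {w w' y : M} (h : Bp w w') (l : Ln w w' y) :
    Sp (Ak w w') w y ∧ w' * y = y * w' ∧ w' * y ∉ Ak w w' :=
  ⟨⟨mem_sup_left l.mem.1, (bu w w' h).2.1 l.mem, l.sq, fun e => l.out (mem_TT l.mem (Or.inl e))⟩,
    (mem_centralizer_singleton_iff.1 l.mem.2).symm, fun e => l.out (mem_TT l.mem (Or.inr e))⟩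

theorem gen {A : Subgroup M} {u p : M} (h1 : u ∈ A) (h2 : u ∈ ZZ) (h3 : p ∈ Qz u ⊔ A) :
    u ∈ Us A p := subset_closure ⟨h1, h2, h3⟩

theorem memW (bu : BuStmt) (ta : TaStmt) (t1 : Tr1Stmt) {w w' y : M} (h : Bp w w') (l : Ln w w' y)
    {u : M} (hu : u ∈ U0 w w') (h1 : u ≠ 1) : u ∈ WW w w' y ↔ y ∈ Qz u ⊔ Ak w w' := by
  obtain ⟨-, -, -, -, b5, b6, -⟩ := bu w w' h
  exact ⟨fun e => (t1 _ w y h.t1.ark (ta w w' h.t1).2.2.2.1 h.z1 (sp bu h l).1).2.2.2.1 u e.2 h1,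
    fun e => ⟨hu, gen (b5 hu) (b6 u hu h1).1 e⟩⟩

theorem half (bu : BuStmt) (ta : TaStmt) {w w' y : M} (h : Bp w w') (l : Ln w w' y) :
    w ∈ Us (Ak w w') y ∧
      ∀ u ∈ Us (Ak w w') w' ⊓ Us (Ak w w') y, u ∈ WW w w' y ∨ u * w ∈ WW w w' y := by
  have hw : w ∈ Us (Ak w w') y := gen (ta w w' h.t1).2.2.2.1 h.z1 (sp bu h l).1.qa
  exact ⟨hw, fun u hu => ((bu w w' h).2.2.2.2.2.2.2 u hu.1).imp (fun e => ⟨e, hu.2⟩)
    fun e => ⟨e, mul_mem hu.2 hw⟩⟩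

end BW

open BW in
theorem bw_of (bu : BuStmt) (ta : TaStmt) (t1 : Tr1Stmt) (t2 : Tr2Stmt) (t3 : Tr3Stmt) :
    BwStmt := by
  intro w w' y h l
  obtain ⟨b1, -, -, b4, -, -, b7, -⟩ := bu w w' h
  obtain ⟨-, -, a3, a4, -⟩ := ta w w' h.t1
  obtain ⟨s1, s2, s3⟩ := sp bu h l
  refine ⟨?_, fun u hu h1 => memW bu ta t1 h l hu h1, fun y₁ l₁ _ => ⟨fun e => ?_, fun e => ?_⟩⟩
  · have h8 := t2 _ w w' y h.t1.ark a4 h.z1 b1 s1 s2 s3
    have := card_two (W := WW w w' y) (X := Us (Ak w w') w' ⊓ Us (Ak w w') y)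
      (inf_le_inf_right _ b4) (w := w) ⟨gen a4 h.z1 b1.qa, (half bu ta h l).1⟩
      (fun e => a3 (b7 w e.1 (ZZ_ne h.z1)).2) (half bu ta h l).2
    omega
  · have hw := (half bu ta h l₁).1
    have hj : y * y₁ ∈ JJ w w' := mul_mem l.mem l₁.mem
    rcases t3 _ w w' y y₁ h.t1.ark a4 h.z1 b1 s1 (sp bu h l₁).1 s2 s3 (fun u hu => by
      rcases (half bu ta h l).2 u hu with k | k <;> rw [e] at k
      · exact k.2
      · exact (Subgroup.mul_mem_cancel_right _ hw).1 k.2) with k | k | k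
    · exact absurd k (sp bu h l₁).2.2
    · exact mem_TT hj (Or.inl k)
    · exact mem_TT hj (Or.inr (mul_assoc w' y y₁ ▸ k))
  · ext u
    by_cases h1 : u = 1
    · simp only [h1, one_mem]
    by_cases hu : u ∈ U0 w w'
    · have k : y * y₁ ∈ Qz u ⊔ Ak w w' :=
        (sup_le le_sup_right ((zpowers_le_of_mem (b7 u hu h1).2).trans le_sup_left) :
          Ak w w' ⊔ zpowers w' ≤ Qz u ⊔ Ak w w') e.2
      rw [memW bu ta t1 h l hu h1, memW bu ta t1 h l₁ hu h1]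
      exact ⟨fun a => (Subgroup.mul_mem_cancel_left _ a).1 k,
        fun a => (Subgroup.mul_mem_cancel_right _ a).1 k⟩
    · exact ⟨fun a => absurd a.1 hu, fun a => absurd a.1 hu⟩

end Cfsg.Agent.H48.M2
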