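import Cfsg.Agent.H30.OrthBridge
import Cfsg.Agent.H9.BaerSuzuki
import Cfsg.Agent.H93.STDA

/-!
# The 2-central involutions of `PΩ_n(q)`, `q` odd, have no complement in their centralisers
-/

set_option autoImplicit false

namespace Cfsg.Agent.H27

open Module QuadraticMap H30
open scoped commutatorElement

variable {F V : Type*} [Field F] [AddCommGroup V] [Module F V] {Q : QuadraticForm F V}
  {g h : O Q} {a b : V}

/-- The `-1`-eigenspace. -/
def ngS (h : O Q) : Submodule F V := LinearMap.ker (h.1.toLinearMap + 1)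

theorem mem_ngS {v : V} : v ∈ ngS h ↔ h.1 v = -v := by
  simp [ngS, add_eq_zero_iff_eq_neg]

theorem sub_mem_ngS (hh : h * h = 1) (v : V) : v - h.1 v ∈ ngS h := by
  rw [mem_ngS, map_sub, ← O_mul_apply, hh, O_one_apply, neg_sub]

theorem nondegOn_ngS (hQ : (polarBilin Q).Nondegenerate) (h2 : (2 : F) ≠ 0) (hh : h * h = 1) :
    NondegOn Q (ngS h) := fun x hx H => eq_zero_of_polar hQ fun y => by
  have h1 := H _ (sub_mem_ngS hh y)
  have h3 := O_polar h x (h.1 y)
  rw [← O_mul_apply, hh, O_one_apply, mem_ngS.1 hx, polar_neg_left] at h3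
  rw [polar_sub_right, ← h3] at h1
  exact mul_left_cancel₀ h2 (by linear_combination h1)

theorem eq_one_of_ngS (hh : h * h = 1) (h0 : ngS h = ⊥) : h = 1 :=
  O_ext fun v => (sub_eq_zero.1 ((Submodule.mem_bot F).1 (h0 ▸ sub_mem_ngS hh v))).symm

theorem commute_refl (ha : h.1 a = a ∨ h.1 a = -a) : Commute h (refl Q a) := by
  rcases ha with ha | ha <;> simp [Commute, SemiconjBy, mul_refl h, ha, refl_neg]

theorem commute_refl_refl (hab : polar Q a b = 0) : Commute (refl Q a) (refl Q b) :=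
  commute_refl (Or.inl (refl_apply_of_orth (by rwa [polar_comm])))

theorem mul_refl_sq (hh : h * h = 1) (ha : a ∈ ngS h) : h * refl Q a * (h * refl Q a) = 1 := by
  rw [(commute_refl (Or.inr (mem_ngS.1 ha))).symm.mul_mul_mul_comm, hh, refl_mul_self, one_mul]

theorem ngS_mul_refl (h2 : (2 : F) ≠ 0) (ha : a ∈ ngS h) (ha0 : Q a ≠ 0) :
    ngS (h * refl Q a) = ngS h ⊓ perp Q (F ∙ a) := by
  ext v
  have key : polar Q a v = 0 → (h * refl Q a).1 v = h.1 v := fun e => by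
    rw [O_mul_apply, refl_apply_of_orth (by rwa [polar_comm])]
  simp only [Submodule.mem_inf, mem_perp_singleton, mem_ngS]
  refine ⟨fun hv => ?_, fun hv => (key hv.2).trans hv.1⟩
  have h1 := O_polar (h * refl Q a) a v
  rw [hv, O_mul_apply, refl_apply_self ha0, map_neg, mem_ngS.1 ha, neg_neg, polar_neg_right] at h1
  have h3 : polar Q a v = 0 := mul_left_cancel₀ h2 (by linear_combination -h1)
  exact ⟨(key h3).symm.trans hv, h3⟩

variable [FiniteDimensional F V]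

theorem finrank_ngS_mul_refl (h2 : (2 : F) ≠ 0) (ha : a ∈ ngS h) (ha0 : Q a ≠ 0) :
    finrank F (ngS (h * refl Q a)) + 1 = finrank F (ngS h) := by
  have h1 := finrank_inf_perp_singleton (Q := Q) (ngS h) a
  have h3 : ngS h ⊓ perp Q (F ∙ a) < ngS h := inf_lt_left.2 fun e =>
    mul_ne_zero h2 ha0 (by simpa [mem_perp_singleton] using e ha)
  have := Submodule.finrank_lt_finrank_of_lt h3
  rw [ngS_mul_refl h2 ha ha0]
  omega

theorem finrank_ngS_add (h2 : (2 : F) ≠ 0) (hh : h * h = 1) :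
    finrank F V ≤ finrank F (ngS h) + finrank F (ngS (negOne Q * h)) := by
  rw [← finrank_top, ← show ngS h ⊔ ngS (negOne Q * h) = ⊤ from eq_top_iff.2 fun v _ => ?_]
  · exact Submodule.finrank_add_le_finrank_add_finrank _ _
  rw [← Submodule.smul_mem_iff _ h2, show (2 : F) • v = v - h.1 v + (v + h.1 v) by module]
  refine Submodule.add_mem_sup (sub_mem_ngS hh v) (mem_ngS.2 ?_)
  rw [O_mul_apply, negOne_apply, map_add, ← O_mul_apply, hh, O_one_apply, add_comm]

variable [Finite F]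

theorem exists_ngS_pair (hQ : (polarBilin Q).Nondegenerate) (h2 : (2 : F) ≠ 0) (hh : h * h = 1)
    (h3 : 3 ≤ finrank F (ngS h)) {s : F} (hs : s ≠ 0) (t : F) :
    ∃ c ∈ ngS h, ∃ d ∈ ngS h, Q c = s ∧ Q d = t ∧ polar Q c d = 0 := by
  obtain ⟨c, hc, rfl⟩ := (nondegOn_ngS hQ h2 hh).exists_Q_eq (by omega) s
  have := finrank_ngS_mul_refl h2 hc hs
  obtain ⟨d, hd, rfl⟩ := (nondegOn_ngS hQ h2 (mul_refl_sq hh hc)).exists_Q_eq (by omega) t
  rw [ngS_mul_refl h2 hc hs] at hd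
  exact ⟨c, hc, d, hd.1, rfl, rfl, mem_perp_singleton.1 hd.2⟩

theorem exists_sq_eq_refl_mul (hQ : (polarBilin Q).Nondegenerate) (h2 : (2 : F) ≠ 0)
    (h7 : 7 ≤ finrank F V) (hg : g * g = 1) (ha : a ∈ ngS g) (hb : b ∈ ngS g) (ha0 : Q a ≠ 0)
    (hab : Q b = Q a) (h0 : polar Q a b = 0) :
    ∃ x ∈ kerDS hQ, Commute g x ∧ x * x = refl Q a * refl Q b := by
  have hb0 : Q b ≠ 0 := hab ▸ ha0
  have hb' : b ∈ ngS (g * refl Q a) := by
    rw [ngS_mul_refl h2 ha ha0]
    exact ⟨hb, mem_perp_singleton.2 h0⟩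
  have hs : Q (a - b) = 2 * Q a := by rw [Q_sub, hab, h0]; ring
  have hs0 : Q (a - b) ≠ 0 := hs ▸ mul_ne_zero h2 ha0
  obtain ⟨c, d, h3, h4, h5, h6⟩ : ∃ c d, Q c = Q a ∧ Q d = Q (a - b) ∧ polar Q c d = 0 ∧
      ∀ v, v = c ∨ v = d → (g.1 v = v ∨ g.1 v = -v) ∧ polar Q a v = 0 ∧ polar Q b v = 0 := by
    have a1 := finrank_ngS_mul_refl h2 ha ha0
    have a2 := finrank_ngS_mul_refl h2 hb' hb0
    have a3 := finrank_ngS_add h2 hg
    by_cases a4 : 3 ≤ finrank F (ngS (negOne Q * g))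
    · obtain ⟨c, hc, d, hd, h3⟩ := exists_ngS_pair hQ h2 (h := negOne Q * g) (by
        rw [mul_assoc, ← mul_assoc g, negOne_comm g, mul_assoc, hg, mul_one, negOne_mul_self])
        a4 ha0 (Q (a - b))
      have a5 : ∀ v ∈ ngS (negOne Q * g), ∀ w ∈ ngS g, g.1 v = v ∧ polar Q w v = 0 := by
        intro v hv w hw
        replace hv : g.1 v = v := neg_injective (mem_ngS.1 hv)
        have := O_polar g w v
        rw [hv, mem_ngS.1 hw, polar_neg_left] at this
        exact ⟨hv, mul_left_cancel₀ h2 (by linear_combination -this)⟩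
      refine ⟨c, d, h3.1, h3.2.1, h3.2.2, ?_⟩
      rintro v (rfl | rfl) <;> exact ⟨Or.inl (a5 v ‹_› a ha).1, (a5 v ‹_› a ha).2, (a5 v ‹_› b hb).2⟩
    · obtain ⟨c, hc, d, hd, h3⟩ := exists_ngS_pair hQ h2 (mul_refl_sq (mul_refl_sq hg ha) hb')
        (by omega) ha0 (Q (a - b))
      rw [ngS_mul_refl h2 hb' hb0, ngS_mul_refl h2 ha ha0] at hc hd
      refine ⟨c, d, h3.1, h3.2.1, h3.2.2, ?_⟩
      rintro v (rfl | rfl)
      exacts [⟨Or.inr (mem_ngS.1 hc.1.1), mem_perp_singleton.1 hc.1.2, mem_perp_singleton.1 hc.2⟩,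
        ⟨Or.inr (mem_ngS.1 hd.1.1), mem_perp_singleton.1 hd.1.2, mem_perp_singleton.1 hd.2⟩]
  have c1 : ∀ v, v = c ∨ v = d → Commute (refl Q a) (refl Q v) ∧ Commute (refl Q (a - b)) (refl Q v) :=
    fun v hv => ⟨commute_refl_refl (h6 v hv).2.1, commute_refl_refl (by simp [h6 v hv])⟩
  have c2 := c1 c (Or.inl rfl)
  have c3 := c1 d (Or.inr rfl)
  refine ⟨refl Q a * refl Q (a - b) * (refl Q c * refl Q d), ?_, ?_, ?_⟩
  · rw [c2.2.mul_mul_mul_comm]
    exact mul_mem ((refl_mul_refl_mem_kerDS_iff hQ ha0 (h3 ▸ ha0)).2 ⟨_, by rw [h3]⟩)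
      ((refl_mul_refl_mem_kerDS_iff hQ hs0 (h4 ▸ hs0)).2 ⟨_, by rw [h4]⟩)
  · exact ((commute_refl (Or.inr (mem_ngS.1 ha))).mul_right (commute_refl (Or.inr (mem_ngS.1
      (sub_mem ha hb))))).mul_right ((commute_refl (h6 c (Or.inl rfl)).1).mul_right
        (commute_refl (h6 d (Or.inr rfl)).1))
  · rw [((c2.1.mul_right c3.1).mul_left (c2.2.mul_right c3.2)).symm.mul_mul_mul_comm,
      (commute_refl_refl h5).symm.mul_mul_mul_comm, refl_mul_self, refl_mul_self, mul_one, mul_one,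
      mul_assoc, ← mul_assoc (refl Q (a - b)), mul_refl _ a, refl_sub_apply hab.symm hs0, mul_assoc,
      refl_mul_self, mul_one]

theorem mem_of_sq_mem (hQ : (polarBilin Q).Nondegenerate) (h2 : (2 : F) ≠ 0) (h7 : 7 ≤ finrank F V)
    (hg : g * g = 1) {L : Subgroup (O Q)} (hL : ∀ x ∈ kerDS hQ, Commute g x → x * x ∈ L)
    (hh : h * h = 1) (hk : h ∈ kerDS hQ) (hle : ngS h ≤ ngS g) : h ∈ L := by
  induction hn : finrank F (ngS h) using Nat.strong_induction_on generalizing h with | _ n ih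
  by_cases h0 : ngS h = ⊥
  · exact eq_one_of_ngS hh h0 ▸ one_mem L
  obtain ⟨a, ha, ha0⟩ := (nondegOn_ngS hQ h2 hh).exists_Q_ne_zero h0
  have h1 := mul_refl_sq hh ha
  have h3 := finrank_ngS_mul_refl h2 ha ha0
  obtain ⟨b, hb, hab⟩ : ∃ b ∈ ngS (h * refl Q a), Q b = Q a := by
    by_cases h4 : 2 ≤ finrank F (ngS (h * refl Q a))
    · exact (nondegOn_ngS hQ h2 h1).exists_Q_eq h4 _
    obtain ⟨b, hb, hb0⟩ := (nondegOn_ngS hQ h2 h1).exists_Q_ne_zero fun e =>
      refl_notMem_kerDS hQ ha0 (by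
        rwa [← refl_inv, ← eq_inv_of_mul_eq_one_left (eq_one_of_ngS h1 e)])
    have h5 := finrank_ngS_mul_refl h2 hb hb0
    have h6 := eq_one_of_ngS (mul_refl_sq h1 hb) (Submodule.finrank_eq_zero.1 (by omega))
    rw [mul_assoc] at h6
    obtain ⟨s, hs⟩ := (refl_mul_refl_mem_kerDS_iff hQ ha0 hb0).1
      (eq_inv_of_mul_eq_one_right h6 ▸ inv_mem hk)
    refine ⟨(s / Q b) • b, Submodule.smul_mem _ _ hb, ?_⟩
    rw [Q_smul]
    field_simp
    linear_combination -hs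
  have hb0 : Q b ≠ 0 := hab ▸ ha0
  have h4 := finrank_ngS_mul_refl h2 hb hb0
  have h5 := ih _ (by omega) (mul_refl_sq h1 hb) (by
    rw [mul_assoc]
    exact mul_mem hk ((refl_mul_refl_mem_kerDS_iff hQ ha0 hb0).2 ⟨_, by rw [hab]⟩)) (by
    rw [ngS_mul_refl h2 hb hb0, ngS_mul_refl h2 ha ha0]
    exact inf_le_left.trans (inf_le_left.trans hle)) rfl
  rw [ngS_mul_refl h2 ha ha0] at hb
  obtain ⟨x, hx, h6, h7⟩ := exists_sq_eq_refl_mul hQ h2 h7 hg (hle ha) (hle hb.1) ha0 hab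
    (mem_perp_singleton.1 hb.2)
  rwa [mul_assoc, L.mul_mem_cancel_right (h7 ▸ hL x hx h6)] at h5

omit [Finite F] in
theorem commute_of_sign (h2 : (2 : F) ≠ 0) (h5 : 5 ≤ finrank F V)
    (h : g * (refl Q a * refl Q b) * g⁻¹ * (refl Q a * refl Q b)⁻¹ = negOne Q) : False := by
  have h1 := finrank_inf_perp_singleton (Q := Q) ⊤ a
  have h3 := finrank_inf_perp_singleton (Q := Q) (⊤ ⊓ perp Q (F ∙ a)) b
  have h4 := finrank_inf_perp_singleton (Q := Q) (⊤ ⊓ perp Q (F ∙ a) ⊓ perp Q (F ∙ b)) (g.1 a)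
  have h6 := finrank_inf_perp_singleton (Q := Q)
    (⊤ ⊓ perp Q (F ∙ a) ⊓ perp Q (F ∙ b) ⊓ perp Q (F ∙ g.1 a)) (g.1 b)
  rw [finrank_top] at h1
  obtain ⟨v, hv, hv0⟩ := Submodule.exists_mem_ne_zero_of_ne_bot (ne_bot_of_finrank_pos
    (show 0 < finrank F ↥(⊤ ⊓ perp Q (F ∙ a) ⊓ perp Q (F ∙ b) ⊓ perp Q (F ∙ g.1 a) ⊓
      perp Q (F ∙ g.1 b)) by omega))
  simp only [Submodule.mem_inf, mem_perp_singleton, polar_comm Q _ v] at hv
  have h7 : refl Q (g.1 a) * refl Q (g.1 b) = negOne Q * (refl Q a * refl Q b) := by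
    rw [← h, ← refl_conj, ← refl_conj]
    group
  have h8 := congrArg (fun k : O Q => k.1 v) h7
  simp only [O_mul_apply, refl_apply_of_orth, hv, negOne_apply] at h8
  exact hv0 ((smul_eq_zero_iff_right h2).1 (by rw [two_smul, add_eq_zero_iff_eq_neg, ← h8]))

omit [FiniteDimensional F V] [Finite F] in
theorem sq_ne_negOne {c : V} (h2 : (2 : F) ≠ 0) (ha : Q a ≠ 0) (hb : Q b ≠ 0)
    (hbc : polar Q b c = 0) (hab : polar Q a b = 0) (hac : polar Q a c = 0)
    (h1 : Commute g (refl Q a * refl Q b)) (h3 : Commute g (refl Q a * refl Q c)) :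
    g * g ≠ negOne Q := fun h => by
  have h4 := congrArg (fun k : O Q => k.1 a) h1.eq
  have h5 := congrArg (fun k : O Q => k.1 a) h3.eq
  simp only [O_mul_apply, refl_apply_of_orth hab, refl_apply_of_orth hac, refl_apply_self ha,
    map_neg] at h4 h5
  have h6 := congrArg (polar Q · b) ((refl Q a).1.injective (h4.symm.trans h5))
  have h7 : polar Q (g.1 a) b = 0 := by
    simp only [refl_apply, polar_sub_left, polar_smul_left', polar_self', polar_comm Q c b, hbc] at h6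
    field_simp at h6
    exact mul_left_cancel₀ h2 (by linear_combination -h6)
  rw [refl_apply_of_orth h7, refl_apply] at h4
  obtain ⟨t, ht⟩ : ∃ t : F, g.1 a = t • a := ⟨2⁻¹ * ((Q a)⁻¹ * polar Q (g.1 a) a), by
    rw [mul_smul, eq_inv_smul_iff₀ h2, two_smul]
    linear_combination (norm := module) -h4⟩
  have h8 := O_map g a
  have h9 := congrArg (fun k : O Q => Q (k.1 a + a)) h
  simp only [O_mul_apply, ht, map_smul, smul_smul, negOne_apply, neg_add_cancel, map_zero] at h9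
  rw [ht, Q_smul, mul_left_eq_self₀, or_iff_left ha] at h8
  rw [h8, one_smul, ← two_smul F, Q_smul] at h9
  simp [h2, ha] at h9

theorem noSplit_of_cover (hQ : (polarBilin Q).Nondegenerate) (h2 : (2 : F) ≠ 0)
    (h7 : 7 ≤ finrank F V) {G : Type*} [Group G] [Finite G] (π : kerDS hQ →* G)
    (hπ : Function.Surjective π) (hk : ∀ k, π k = 1 → k.1 = 1 ∨ k.1 = negOne Q) :
    H93.STD.NoSplit G := by
  intro u hu hodd K hK
  obtain ⟨g, rfl⟩ := hπ u
  have hg : g.1 * g.1 = 1 := by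
    refine (hk (g * g) (by rw [map_mul, ← pow_two, ← hu, pow_orderOf_eq_one])).resolve_right ?_
    obtain ⟨a, ha⟩ := exists_Q_eq hQ (by omega) 1
    have ha0 : Q a ≠ 0 := by simp [ha]
    have h0 : ngS (negOne Q) = ⊤ := eq_top_iff.2 fun v _ => mem_ngS.2 rfl
    have h1 := finrank_ngS_mul_refl h2 (h0.ge (Submodule.mem_top (x := a))) ha0
    rw [h0, finrank_top] at h1
    obtain ⟨b, hb, c, hc, h3, h4, h5⟩ := exists_ngS_pair hQ h2
      (mul_refl_sq negOne_mul_self (h0.ge (Submodule.mem_top (x := a)))) (by omega) ha0 (Q a)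
    rw [ngS_mul_refl h2 (h0.ge (Submodule.mem_top (x := a))) ha0] at hb hc
    replace hb := mem_perp_singleton.1 hb.2
    replace hc := mem_perp_singleton.1 hc.2
    let r : ∀ v, Q v = Q a → kerDS hQ := fun v hv => ⟨refl Q a * refl Q v,
      (refl_mul_refl_mem_kerDS_iff hQ ha0 (hv ▸ ha0)).2 ⟨_, by rw [hv]⟩⟩
    have hr : ∀ v hv, polar Q a v = 0 → r v hv * r v hv = 1 := fun v hv h => Subtype.ext (by
      change refl Q a * refl Q v * (refl Q a * refl Q v) = 1
      rw [(commute_refl_refl h).symm.mul_mul_mul_comm, refl_mul_self, refl_mul_self, one_mul])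
    have hc' : Commute (r b h3) (r c h4) := Subtype.ext
      (((Commute.refl _).mul_right (commute_refl_refl hc)).mul_left
        ((commute_refl_refl hb).symm.mul_right (commute_refl_refl h5)))
    have hP := H9.isPGroup_closure_involutions (x := π (r b h3)) (y := π (r c h4)) (n := 1)
      (by rw [← map_mul, hr _ h3 hb, map_one]) (by rw [← map_mul, hr _ h4 hc, map_one])
      (by rw [← map_mul, pow_one, pow_two, ← map_mul, hc'.symm.mul_mul_mul_comm, hr _ h3 hb,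
        hr _ h4 hc, one_mul, map_one])
    obtain ⟨x, hx⟩ := hP.nonempty_fixed_point_of_prime_not_dvd_card
      (G ⧸ Subgroup.centralizer {π g}) hodd.not_two_dvd_nat
    obtain ⟨x, rfl⟩ := QuotientGroup.mk_surjective x
    obtain ⟨k, rfl⟩ := hπ x
    have key : ∀ v hv, π (r v hv) ∈ Subgroup.closure {π (r b h3), π (r c h4)} →
        Commute g.1 (refl Q ((k.1⁻¹).1 a) * refl Q ((k.1⁻¹).1 v)) := fun v hv h => by
      have e : (k⁻¹ * r v hv * k).1 = refl Q ((k.1⁻¹).1 a) * refl Q ((k.1⁻¹).1 v) := by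
        rw [← refl_conj, ← refl_conj]
        simp [r, mul_assoc]
      have h6 := QuotientGroup.eq.1 (hx ⟨_, h⟩).symm
      rw [Subgroup.mem_centralizer_singleton_iff] at h6
      refine commutatorElement_eq_one_iff_commute.1 ((hk ⁅g, k⁻¹ * r v hv * k⁆ ?_).elim
        (fun h => by rw [← e]; exact h) fun h => (commute_of_sign (g := g.1) h2 (by omega)
          (by rw [← e]; exact h)).elim)
      rw [map_commutatorElement, commutatorElement_eq_one_iff_mul_comm]
      simpa [mul_assoc] using h6.symm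
    exact sq_ne_negOne h2 (by rwa [O_map]) (by rwa [O_map, h3]) (by rwa [O_polar]) (by rwa [O_polar])
      (by rwa [O_polar]) (key b h3 (Subgroup.subset_closure (by simp)))
      (key c h4 (Subgroup.subset_closure (by simp)))
  obtain ⟨k, hk, e⟩ := mem_of_sq_mem hQ h2 h7 hg (L := (K.comap π).map (kerDS hQ).subtype)
    (fun x hx h => ⟨⟨x, hx⟩ * ⟨x, hx⟩, by
      simpa [Subgroup.mem_subgroupOf, -MulMemClass.mk_mul_mk] using Subgroup.mul_self_mem_of_index_two hK ⟨π ⟨x, hx⟩,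
        Subgroup.mem_centralizer_singleton_iff.2 (by
          rw [← map_mul, ← map_mul]
          exact congrArg π (Subtype.ext h.symm.eq))⟩, rfl⟩) hg g.2 le_rfl
  rwa [← Subtype.ext e]

theorem noSplit_pomega {ι : Type} [Fintype ι] [DecidableEq ι] {Q : QuadraticForm F (ι → F)}
    (hQ : (polarBilin Q).Nondegenerate) {p : ℕ} [CharP F p] (hp : p.Prime) (hp2 : p ≠ 2)
    (h7 : 7 ≤ Fintype.card ι) {G : Type*} [Group G] [Finite G] (e : G ≃* POmega F ⇑Q) :
    H93.STD.NoSplit G := by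
  have h2 : (2 : F) ≠ 0 := fun h => hp2 ((Nat.prime_dvd_prime_iff_eq hp Nat.prime_two).1
    ((CharP.cast_eq_zero_iff F p 2).1 (by exact_mod_cast h)))
  have h3 : 3 ≤ finrank F (ι → F) := by rw [finrank_pi']; omega
  obtain ⟨x, y, h⟩ := exists_isHyp_of_three_le hQ h3
  let φ := MulEquiv.subgroupCongr (eichGroup_eq_kerDS hQ (not_isExc_of_two h2) h3).symm
  let ψ := e.trans (pomegaEquivEich hQ (not_isExc_of_two h2) (by omega))
  refine noSplit_of_cover hQ h2 (by rwa [finrank_pi']) (ψ.symm.toMonoidHom.comp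
    ((QuotientGroup.mk' _).comp φ.toMonoidHom)) (ψ.symm.surjective.comp
      ((QuotientGroup.mk'_surjective _).comp φ.surjective)) fun k hk => ?_
  exact (mem_center_eichGroup_iff hQ h h3 (g := φ k)).1 (by simpa using hk)

universe u

theorem noSplit_pomegaOdd : H93.STD.NoSplitFor.{u} IsPOmegaOddChar := by
  rintro p G _ _ hp hp2 ⟨F, _, _, _, m, hm, ho, ⟨e⟩⟩
  exact noSplit_pomega (qOdd_nondegenerate (two_ne_zero_iff_odd_card.2 ho) m) hp hp2
    (by simp; omega) e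

theorem noSplit_pomegaPlus : H93.STD.NoSplitFor.{u} IsPOmegaPlusChar := by
  rintro p G _ _ hp hp2 ⟨F, _, _, _, m, hm, ⟨e⟩⟩
  exact noSplit_pomega (qPlus_nondegenerate m) hp hp2 (by simp; omega) e

theorem noSplit_pomegaMinus : H93.STD.NoSplitFor.{u} IsPOmegaMinusChar := by
  rintro p G _ _ hp hp2 ⟨F, _, _, _, m, a, b, hm, h, ⟨e⟩⟩
  exact noSplit_pomega (qMinus_nondegenerate (m - 1) h) hp hp2 (by simp; omega) e

end Cfsg.Agent.H27
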