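import Cfsg.Agent.Lead.PcDefs

/-! Project PL: counting squares over the involutions of a quotient. -/

set_option autoImplicit false

namespace Cfsg.Agent.H27.PlCnt

open Subgroup Cfsg.Agent.Lead.Pc
open scoped commutatorElement

universe u

theorem odd_inv {H : Type u} [Group H] [Fintype H] [DecidableEq H] (h : Even (Nat.card H)) :
    Odd (Finset.univ.filter fun τ : H => τ ≠ 1 ∧ τ * τ = 1).card := by
  have : Fact (Nat.Prime 2) := ⟨Nat.prime_two⟩
  have k := Equiv.Perm.card_fixedPoints_modEq (f := (fun τ : H => τ⁻¹ : Function.End H)) (p := 2)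
    (n := 1) (funext fun τ => inv_inv τ)
  have e : Fintype.card (Function.fixedPoints (fun τ : H => τ⁻¹ : Function.End H)) =
      (Finset.univ.filter fun τ : H => τ ≠ 1 ∧ τ * τ = 1).card + 1 := by
    rw [← Finset.card_insert_of_notMem (a := 1) (by simp), ← Set.toFinset_card]
    congr 1
    ext τ
    simp only [Set.mem_toFinset, Finset.mem_insert, Finset.mem_filter, Finset.mem_univ, true_and]
    change τ⁻¹ = τ ↔ _
    rw [inv_eq_iff_mul_eq_one]
    by_cases c : τ = 1 <;> simp [c]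
  rw [Nat.card_eq_fintype_card, Nat.even_iff] at h
  rw [Nat.odd_iff]
  have k' : Fintype.card H % 2 = ((Finset.univ.filter fun τ : H => τ ≠ 1 ∧ τ * τ = 1).card + 1) % 2 := by
    rw [← e]
    exact k
  omega

theorem cnt : CntStmt.{u} := by
  intro G _ _ V W a t tW t2
  classical
  have := a.nW
  have := a.nV
  have := Fintype.ofFinite G
  have := Fintype.ofFinite (G ⧸ W)
  let r : G ⧸ W → G → Prop := fun τ y => ∃ x : G, (x : G ⧸ W) = τ ∧ x * x = y
  let D : Finset (G ⧸ W) := Finset.univ.filter fun τ => τ ≠ 1 ∧ τ * τ = 1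
  let E : Finset G := Finset.univ.filter fun y => y ∈ W ∧ y ∉ V
  have r1 : ∀ (g : G) τ y, r τ y → r (MulAut.conj (g : G ⧸ W) τ) (MulAut.conj g y) := by
    rintro g _ _ ⟨x, rfl, rfl⟩
    exact ⟨g * x * g⁻¹, rfl, by simp⟩
  have r2 : ∀ (g : G) τ y, r τ y ↔ r (MulAut.conj (g : G ⧸ W) τ) (MulAut.conj g y) :=
    fun g τ y => ⟨r1 g τ y, fun h => by simpa [mul_assoc] using r1 g⁻¹ _ _ h⟩
  have d2 : ∀ (g τ : G ⧸ W), τ ∈ D ↔ MulAut.conj g τ ∈ D := fun g τ => by
    simp only [D, Finset.mem_filter, Finset.mem_univ, true_and, ← map_mul, ne_eq,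
      EmbeddingLike.map_eq_one_iff]
  have e2 : ∀ g y : G, y ∈ E ↔ MulAut.conj g y ∈ E := fun g y => by
    simp only [E, Finset.mem_filter, Finset.mem_univ, true_and, MulAut.conj_apply,
      a.nW.mem_comm_iff (a := g * y), a.nV.mem_comm_iff (a := g * y), inv_mul_cancel_left]
  obtain ⟨y0, y1, y2⟩ := SetLike.not_le_iff_exists.1 a.ne
  have sq : ∀ w ∈ W, t * w * (t * w) = ⁅t, w⁆ * (t * t) := fun w hw => by
    have h1 := a.cen _ t2 w⁻¹ (inv_mem hw)
    rw [commutatorElement_def, mul_assoc _ w⁻¹, ← h1, inv_eq_of_mul_eq_one_right (a.el w hw)]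
    group
  have key := Finset.card_mul_eq_card_mul (s := D) (t := E) r
    (m := Set.ncard {x : G | ∃ w ∈ W, x = ⁅t, w⁆}) (n := (D.bipartiteBelow r y0).card)
    (fun τ hτ => by
      obtain ⟨t', rfl⟩ := QuotientGroup.mk_surjective τ
      have h := (Finset.mem_filter.1 hτ).2
      rw [ne_eq, ← QuotientGroup.mk_mul, QuotientGroup.eq_one_iff, QuotientGroup.eq_one_iff] at h
      obtain ⟨g, hg⟩ := a.cj t t' tW h.1 t2 h.2
      have e : MulAut.conj (g : G ⧸ W) (t : G ⧸ W) = t' :=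
        mul_inv_eq_one.1 ((QuotientGroup.eq_one_iff _).2 hg)
      rw [← Finset.card_equiv (s := E.bipartiteAbove r (t : G ⧸ W)) (MulAut.conj g).toEquiv fun y => by
        rw [Finset.mem_bipartiteAbove, Finset.mem_bipartiteAbove, ← e, e2 g, r2 g]
        rfl, ← Set.ncard_coe_finset,
        ← Set.ncard_image_of_injective {x : G | ∃ w ∈ W, x = ⁅t, w⁆} (mul_left_injective (t * t))]
      congr 1
      ext y
      rw [Finset.mem_coe, Finset.mem_bipartiteAbove]
      constructor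
      · rintro ⟨-, x, hx, rfl⟩
        have h1 := QuotientGroup.eq.1 hx.symm
        refine ⟨_, ⟨_, h1, rfl⟩, (sq _ h1).symm.trans ?_⟩
        rw [mul_inv_cancel_left]
      · rintro ⟨_, ⟨w, hw, rfl⟩, rfl⟩
        have h1 : ⁅t, w⁆ * (t * t) ∈ W := mul_mem (by
          rw [commutatorElement_def]
          exact mul_mem (a.nW.conj_mem w hw t) (inv_mem hw)) t2
        refine ⟨Finset.mem_filter.2 ⟨Finset.mem_univ _, h1, ?_⟩, t * w,
          QuotientGroup.mk_mul_of_mem t hw, sq w hw⟩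
        change ⁅t, w⁆ * (t * t) ∉ V
        rw [← sq w hw] at h1 ⊢
        exact a.sq _ (fun c => tW ((mul_mem_cancel_right hw).1 c)) h1)
    (fun y hy => by
      have h := (Finset.mem_filter.1 hy).2
      obtain ⟨g, rfl⟩ := a.tr y0 y1 y h.1 y2 h.2
      exact (Finset.card_equiv (MulAut.conj (g : G ⧸ W)).toEquiv fun τ => by
        rw [Finset.mem_bipartiteBelow, Finset.mem_bipartiteBelow, d2 (g : G ⧸ W), r2 g]
        rfl).symm)
  have cE : E.card + Nat.card V = Nat.card W := by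
    rw [← Set.ncard_coe_finset, show (E : Set G) = (W : Set G) \ (V : Set G) from Set.ext fun y => by simp [E]]
    exact Set.ncard_sdiff_add_ncard_of_subset a.vw
  have h2 : IsPGroup 2 V := fun v => ⟨1, Subtype.ext (by simpa [pow_two] using a.el v (a.vw v.2))⟩
  obtain ⟨k, hk⟩ := IsPGroup.iff_card.1 h2
  have h3 : Nat.card V ∣ E.card := (Nat.dvd_add_left dvd_rfl).1 (cE ▸ card_dvd_of_le a.vw)
  refine Nat.Coprime.dvd_of_dvd_mul_left ?_ (key ▸ h3.mul_right _)
  rw [hk]
  exact (Nat.coprime_two_left.2 (odd_inv a.ev)).pow_left k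

end Cfsg.Agent.H27.PlCnt
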