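import Cfsg.Agent.H27.AltStab
import Cfsg.Agent.H27.AltSimple

/-!
# Elementary abelian 2-subgroups of symplectic groups in odd characteristic

* `card_sq_le_of_exponent_two`: a group of exponent two acting faithfully by isometries of a
  non-degenerate alternating form on `V` has `|A|^2 ≤ 2^(dim V)`.
* `not_injective_to_psp`: `PSp(V)`, `dim V = 2m ≥ 6`, has no elementary abelian subgroup of
  order `2^(2m)`.
-/

set_option autoImplicit false

namespace Cfsg.Agent.H27

open Module

universe u

variable {F : Type*} [Field F]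

theorem exists_maximal_isotropic {K E : Type*} [Field K] [AddCommGroup E] [Module K E]
    [FiniteDimensional K E] {β : LinearMap.BilinForm K E} (hA : β.IsAlt) :
    ∃ L : Submodule K E, (∀ a ∈ L, ∀ b ∈ L, β a b = 0) ∧
      2 * finrank K L = finrank K E + finrank K (β.orthogonal ⊤) := by
  obtain ⟨L, hL, hmax⟩ := exists_maximal_of_wellFoundedGT
    (fun L : Submodule K E => ∀ a ∈ L, ∀ b ∈ L, β a b = 0) ⟨⊥, by simp⟩
  have h1 : β.orthogonal L = L := by
    apply le_antisymm
    · intro x hx
      have h2 : ∀ a ∈ L ⊔ K ∙ x, ∀ b ∈ L ⊔ K ∙ x, β a b = 0 := by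
        intro a0 ha0 b0 hb0
        obtain ⟨a, ha, a', ha', rfl⟩ := Submodule.mem_sup.1 ha0
        obtain ⟨b, hb, b', hb', rfl⟩ := Submodule.mem_sup.1 hb0
        obtain ⟨s, rfl⟩ := Submodule.mem_span_singleton.1 ha'
        obtain ⟨t, rfl⟩ := Submodule.mem_span_singleton.1 hb'
        have h3 : β a x = 0 := hx a ha
        have h4 : β x b = 0 := hA.isRefl _ _ (hx b hb)
        simp [hL a ha b hb, h3, h4, hA.self_eq_zero]
      exact hmax h2 le_sup_left (Submodule.mem_sup_right (Submodule.mem_span_singleton_self x))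
    · intro x hx y hy
      exact hL y hy x hx
  refine ⟨L, hL, ?_⟩
  have h2 := LinearMap.BilinForm.finrank_add_finrank_orthogonal hA.isRefl L
  have h3 : L ⊓ β.orthogonal ⊤ = β.orthogonal ⊤ :=
    inf_eq_right.2 (h1 ▸ LinearMap.BilinForm.orthogonal_le le_top)
  rw [h1, h3] at h2
  omega

theorem card_sq_le_of_exponent_two (h2 : (2 : F) ≠ 0) (n : ℕ) :
    ∀ {V : Type u} [AddCommGroup V] [Module F V] [FiniteDimensional F V]
      {B : LinearMap.BilinForm F V}, B.Nondegenerate → B.IsAlt → finrank F V = n →
      ∀ A : Subgroup (isomGroup B), (∀ a ∈ A, a * a = 1) → Nat.card A ^ 2 ≤ 2 ^ n := by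
  induction n using Nat.strong_induction_on with
  | _ n ih =>
  intro V _ _ _ B hB hA hn A hexp
  by_cases hpm : ∀ a ∈ A, a = 1 ∨ a = isoNeg B
  · rcases Nat.eq_zero_or_pos n with rfl | hpos
    · have : Subsingleton V := Module.finrank_zero_iff.1 hn
      have : A = ⊥ := eq_bot_iff.2 fun a _ =>
        Subtype.ext (LinearEquiv.ext fun v => Subsingleton.elim _ _)
      rw [this]; simp
    · have h1 : Nat.card A ≤ 2 := by
        have : (A : Set (isomGroup B)) ⊆ {1, isoNeg B} := fun a ha => hpm a ha
        have h3 := Set.ncard_le_ncard this (Set.toFinite _)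
        have h4 : ({1, isoNeg B} : Set (isomGroup B)).ncard ≤ 2 :=
          (Set.ncard_insert_le _ _).trans (by simp)
        exact h3.trans h4
      have h3 : 2 ≤ n := by
        obtain ⟨k, hk⟩ := even_finrank_of_alt hB hA
        omega
      calc Nat.card A ^ 2 ≤ 2 ^ 2 := Nat.pow_le_pow_left h1 2
        _ ≤ 2 ^ n := Nat.pow_le_pow_right two_pos h3
  · push Not at hpm
    obtain ⟨a, haA, ha1, ha2⟩ := hpm
    have haa : ∀ v, (a : V ≃ₗ[F] V) ((a : V ≃ₗ[F] V) v) = v := fun v =>
      LinearEquiv.congr_fun (congrArg Subtype.val (hexp a haA)) v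
    have hcomm : ∀ g ∈ A, g * a = a * g := fun g hg => by
      have h1 := hexp _ (A.mul_mem hg haA)
      have h3 := hexp g hg
      have h4 := hexp a haA
      calc g * a = (g * a)⁻¹ := (inv_eq_of_mul_eq_one_right h1).symm
        _ = a⁻¹ * g⁻¹ := mul_inv_rev _ _
        _ = a * g := by rw [inv_eq_of_mul_eq_one_right h3, inv_eq_of_mul_eq_one_right h4]
    let W : Submodule F V := LinearMap.ker ((a : V ≃ₗ[F] V).toLinearMap - LinearMap.id)
    have hW : ∀ v, v ∈ W ↔ (a : V ≃ₗ[F] V) v = v := fun v => by
      simp [W, LinearMap.mem_ker, sub_eq_zero]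
    have hdisj : Disjoint W (B.orthogonal W) := by
      rw [disjoint_orthogonal_iff]
      intro u hu hu'
      refine hB.2 u fun v => ?_
      have h1 := hu' (v + (a : V ≃ₗ[F] V) v) (by rw [hW, map_add, haa, add_comm])
      have h3 : B ((a : V ≃ₗ[F] V) v) u = B v u := by
        conv_lhs => rw [← (hW u).1 hu]
        exact a.2 v u
      rw [map_add, LinearMap.add_apply, h3, ← two_mul] at h1
      exact (mul_eq_zero.1 h1).resolve_left h2
    have hc : IsCompl W (B.orthogonal W) :=
      (LinearMap.BilinForm.isCompl_orthogonal_iff_disjoint hA.isRefl).2 hdisj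
    have hWtop : W ≠ ⊤ := fun h => ha1 (Subtype.ext (LinearEquiv.ext fun v =>
      (hW v).1 (h ▸ Submodule.mem_top)))
    have hWbot : W ≠ ⊥ := fun h => ha2 (Subtype.ext (LinearEquiv.ext fun v => by
      have h1 : v + (a : V ≃ₗ[F] V) v ∈ W := by rw [hW, map_add, haa, add_comm]
      rw [h, Submodule.mem_bot] at h1
      exact eq_neg_of_add_eq_zero_right h1))
    have hdim := Submodule.finrank_add_eq_of_isCompl hc
    have hlt : finrank F W < finrank F V := Submodule.finrank_lt hWtop
    have hpos : finrank F W ≠ 0 := fun h => hWbot (Submodule.finrank_eq_zero.1 h)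
    have hle : A ≤ stab B W := fun g hg => mem_stab_of_le fun v hv => by
      rw [hW] at hv ⊢
      have := LinearEquiv.congr_fun (congrArg Subtype.val (hcomm g hg)) v
      change (g : V ≃ₗ[F] V) ((a : V ≃ₗ[F] V) v) = (a : V ≃ₗ[F] V) ((g : V ≃ₗ[F] V) v) at this
      rw [← this, hv]
    let φ := (stabEquivProd hA.isRefl hc).toMonoidHom.comp (Subgroup.inclusion hle)
    have hφ : Function.Injective φ :=
      (stabEquivProd hA.isRefl hc).injective.comp (Subgroup.inclusion_injective hle)
    let A₁ := ((MonoidHom.fst _ _).comp φ).range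
    let A₂ := ((MonoidHom.snd _ _).comp φ).range
    have hexp' : ∀ g : A, g * g = 1 := fun g => Subtype.ext (hexp g g.2)
    have hB₁ := (LinearMap.BilinForm.nondegenerate_restrict_of_disjoint_orthogonal B hA.isRefl hdisj)
    have hB₂ := (LinearMap.BilinForm.nondegenerate_restrict_of_disjoint_orthogonal B hA.isRefl
      (disjoint_orthogonal_orthogonal hB hA.isRefl hdisj))
    have h₁ := ih (finrank F W) (by omega) hB₁ (isAlt_restrict hA W) rfl A₁ (by
      rintro _ ⟨g, rfl⟩
      rw [← map_mul, hexp', map_one])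
    have h₂ := ih (finrank F (B.orthogonal W)) (by omega) hB₂ (isAlt_restrict hA _) rfl A₂ (by
      rintro _ ⟨g, rfl⟩
      rw [← map_mul, hexp', map_one])
    by_cases hfin : Finite A
    · have : Finite A₁ := Finite.of_surjective _ (MonoidHom.rangeRestrict_surjective _)
      have : Finite A₂ := Finite.of_surjective _ (MonoidHom.rangeRestrict_surjective _)
      have h3 : Nat.card A ≤ Nat.card (A₁ × A₂) :=
        Nat.card_le_card_of_injective (fun g => (⟨(φ g).1, g, rfl⟩, ⟨(φ g).2, g, rfl⟩))
          fun g g' h => hφ (Prod.ext (congrArg (fun x => x.1.1) h) (congrArg (fun x => x.2.1) h))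
      rw [Nat.card_prod] at h3
      calc Nat.card A ^ 2 ≤ (Nat.card A₁ * Nat.card A₂) ^ 2 := Nat.pow_le_pow_left h3 2
        _ = Nat.card A₁ ^ 2 * Nat.card A₂ ^ 2 := mul_pow _ _ _
        _ ≤ 2 ^ finrank F W * 2 ^ finrank F (B.orthogonal W) := Nat.mul_le_mul h₁ h₂
        _ = 2 ^ n := by rw [← pow_add, hdim, hn]
    · have : Infinite A := not_finite_iff_infinite.1 hfin
      simp

section Lift

variable {G : Type*} [Group G] {E : Type*} [AddCommGroup E] [Module (ZMod 2) E]

open Classical in
/-- The commutator pairing `0` (commute) / `1` (do not commute). -/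
noncomputable def cpair (x y : G) : ZMod 2 := if x * y = y * x then 0 else 1

theorem zmod_two_cases (r : ZMod 2) : r = 0 ∨ r = 1 := by revert r; decide

theorem cpair_eq_zero_iff {x y : G} : cpair x y = 0 ↔ x * y = y * x := by
  unfold cpair
  split_ifs with h <;> simp [h]

theorem cpair_comm (x y : G) : cpair x y = cpair y x := by
  classical
  unfold cpair
  exact if_congr eq_comm rfl rfl

theorem cpair_mul {z : G} (hz : ∀ g, g * z = z * g) (hz2 : z * z = 1) (hz1 : z ≠ 1) {x y w : G}
    (hx : x * w = w * x ∨ x * w = z * (w * x)) (hy : y * w = w * y ∨ y * w = z * (w * y)) :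
    cpair (x * y) w = cpair x w + cpair y w := by
  have hne : ∀ g : G, z * g ≠ g := fun g h => hz1 (mul_eq_right.1 h)
  unfold cpair
  rcases hx with hx | hx <;> rcases hy with hy | hy
  · rw [if_pos hx, if_pos hy, if_pos, add_zero]
    rw [mul_assoc, hy, ← mul_assoc, hx, mul_assoc]
  · rw [if_pos hx, if_neg (by rw [hy]; exact hne _ : ¬ y * w = w * y), if_neg, zero_add]
    rw [mul_assoc, hy, ← mul_assoc, hz x, mul_assoc, ← mul_assoc x, hx, mul_assoc]
    exact hne _
  · rw [if_pos hy, if_neg (by rw [hx]; exact hne _ : ¬ x * w = w * x), if_neg, add_zero]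
    rw [mul_assoc, hy, ← mul_assoc, hx, mul_assoc, mul_assoc]
    exact hne _
  · rw [if_neg (by rw [hx]; exact hne _ : ¬ x * w = w * x),
      if_neg (by rw [hy]; exact hne _ : ¬ y * w = w * y), if_pos]
    · decide
    · rw [mul_assoc, hy, ← mul_assoc, hz x, mul_assoc, ← mul_assoc x, hx, ← mul_assoc,
        ← mul_assoc, hz2, one_mul, mul_assoc]

theorem cpair_central_mul {z : G} (hz : ∀ g, g * z = z * g) (x w : G) :
    cpair (z * x) w = cpair x w := by
  classical
  unfold cpair
  have : (z * x * w = w * (z * x)) ↔ x * w = w * x := by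
    rw [← mul_assoc w, hz w, mul_assoc, mul_assoc, mul_right_inj]
  exact if_congr this rfl rfl

/-- Lifts of an elementary abelian group through a central extension by a group of order two. -/
structure IsLift (z : G) (s : E → G) : Prop where
  central : ∀ g, g * z = z * g
  sq : z * z = 1
  ne_one : z ≠ 1
  map_add : ∀ a b, s (a + b) = s a * s b ∨ s (a + b) = z * (s a * s b)
  inj : ∀ a, s a = 1 ∨ s a = z → a = 0

namespace IsLift

variable {z : G} {s : E → G} (h : IsLift z s)
include h

omit [Module (ZMod 2) E] in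
theorem z_mul_z (g : G) : z * (z * g) = g := by rw [← mul_assoc, h.sq, one_mul]

omit [Module (ZMod 2) E] in
theorem comm (a b : E) : s a * s b = s b * s a ∨ s a * s b = z * (s b * s a) := by
  have h1 := h.map_add a b
  have h2 := h.map_add b a
  rw [add_comm] at h2
  rcases h1 with h1 | h1 <;> rcases h2 with h2 | h2
  · exact Or.inl (h1.symm.trans h2)
  · exact Or.inr (h1.symm.trans h2)
  · exact Or.inr (by rw [← h2, h1, h.z_mul_z])
  · exact Or.inl (mul_left_cancel (h1.symm.trans h2))

omit [Module (ZMod 2) E] in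
theorem zero : s 0 = 1 ∨ s 0 = z := by
  rcases h.map_add 0 0 with h1 | h1 <;> rw [add_zero] at h1
  · exact Or.inl (mul_eq_left.1 h1.symm)
  · right
    have h2 : z * s 0 = 1 := mul_eq_right.1 (by rw [mul_assoc]; exact h1.symm)
    rw [← h.z_mul_z (s 0), h2, mul_one]

theorem mul_self (a : E) : s a * s a = 1 ∨ s a * s a = z := by
  have h0 : a + a = 0 := by
    rw [← two_smul (ZMod 2) a, show (2 : ZMod 2) = 0 from rfl, zero_smul]
  have h1 := h.map_add a a
  rw [h0] at h1
  rcases h1 with h1 | h1 <;> rcases h.zero with h2 | h2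
  · exact Or.inl (h1.symm.trans h2)
  · exact Or.inr (h1.symm.trans h2)
  · exact Or.inr (by rw [← h.z_mul_z (s a * s a), ← h1, h2, mul_one])
  · exact Or.inl (by rw [← h.z_mul_z (s a * s a), ← h1, h2, h.sq])

omit [Module (ZMod 2) E] in
theorem cpair_add (a b c : E) : cpair (s (a + b)) (s c) = cpair (s a) (s c) + cpair (s b) (s c) := by
  rw [← cpair_mul h.central h.sq h.ne_one (h.comm a c) (h.comm b c)]
  rcases h.map_add a b with h1 | h1 <;> rw [h1]
  exact cpair_central_mul h.central _ _

omit [Module (ZMod 2) E] in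
theorem cpair_zero (c : E) : cpair (s 0) (s c) = 0 := by
  have := h.cpair_add 0 0 c
  rw [add_zero] at this
  exact left_eq_add.1 this

theorem cpair_smul (r : ZMod 2) (a c : E) : cpair (s (r • a)) (s c) = r • cpair (s a) (s c) := by
  rcases zmod_two_cases r with rfl | rfl
  · rw [zero_smul, zero_smul, h.cpair_zero]
  · rw [one_smul, one_smul]

/-- The commutator form. -/
noncomputable def form : LinearMap.BilinForm (ZMod 2) E :=
  LinearMap.mk₂ (ZMod 2) (fun a b => cpair (s a) (s b)) h.cpair_add h.cpair_smul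
    (fun a b c => by rw [cpair_comm, h.cpair_add, cpair_comm (s b), cpair_comm (s c)])
    (fun r a b => by rw [cpair_comm, h.cpair_smul, cpair_comm])

theorem form_apply (a b : E) : h.form a b = cpair (s a) (s b) := rfl

theorem form_isAlt : h.form.IsAlt := fun _ => cpair_eq_zero_iff.2 rfl

/-- A subspace on which the lifts commute gives an elementary abelian subgroup of the same size. -/
theorem exists_exponent_two [Finite E] (L : Submodule (ZMod 2) E)
    (hL : ∀ a ∈ L, ∀ b ∈ L, s a * s b = s b * s a) :
    ∃ A : Subgroup G, (∀ a ∈ A, a * a = 1) ∧ Nat.card L ≤ Nat.card A := by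
  classical
  -- the squaring map on `L`
  have hsq : ∀ a ∈ L, ∀ b ∈ L, s (a + b) * s (a + b) = (s a * s a) * (s b * s b) := by
    intro a ha b hb
    have h1 : (s a * s b) * (s a * s b) = (s a * s a) * (s b * s b) := by
      rw [mul_assoc, ← mul_assoc (s b), ← hL a ha b hb]; group
    rcases h.map_add a b with h2 | h2 <;> rw [h2]
    · exact h1
    · rw [mul_assoc, ← mul_assoc (s a * s b), h.central, mul_assoc, h.z_mul_z, h1]
  let q : L →+ ZMod 2 :=
    { toFun := fun a => if s a * s a = 1 then 0 else 1
      map_zero' := by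
        rw [if_pos]
        rcases h.zero with h0 | h0
        · simp [h0]
        · simp [h0, h.sq]
      map_add' := fun a b => by
        rw [Submodule.coe_add, hsq a a.2 b b.2]
        have := h.ne_one
        rcases h.mul_self a with ha | ha <;> rcases h.mul_self b with hb | hb <;>
          simp [ha, hb, this, h.sq]
        decide }
  have hq : ∀ a : L, a ∈ q.ker ↔ s a * s a = 1 := fun a => by
    rw [AddMonoidHom.mem_ker]
    change (if s a * s a = 1 then 0 else 1 : ZMod 2) = 0 ↔ _
    split_ifs with h1 <;> simp [h1]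
  let A : Subgroup G :=
    { carrier := {x | ∃ a ∈ q.ker, x = s a ∨ x = z * s a}
      one_mem' := ⟨0, q.ker.zero_mem, by
        rcases h.zero with h0 | h0
        · exact Or.inl h0.symm
        · exact Or.inr (by rw [ZeroMemClass.coe_zero, h0, h.sq])⟩
      mul_mem' := by
        rintro x y ⟨a, ha, hx⟩ ⟨b, hb, hy⟩
        refine ⟨a + b, q.ker.add_mem ha hb, ?_⟩
        have h1 : s a * (z * s b) = z * (s a * s b) := by
          rw [← mul_assoc, h.central, mul_assoc]
        rcases h.map_add a b with h2 | h2 <;> rcases hx with rfl | rfl <;>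
          rcases hy with rfl | rfl <;> simp [h2, h1, mul_assoc, h.z_mul_z]
      inv_mem' := by
        rintro x ⟨a, ha, hx⟩
        refine ⟨a, ha, ?_⟩
        have h1 := (hq a).1 ha
        rcases hx with rfl | rfl
        · exact Or.inl (inv_eq_of_mul_eq_one_right h1)
        · refine Or.inr (inv_eq_of_mul_eq_one_right ?_)
          rw [mul_assoc, ← mul_assoc (s a), h.central, mul_assoc, h.z_mul_z, h1] }
  have hfin : Finite A := by
    refine Finite.of_surjective (fun p : q.ker × Bool =>
      (⟨if p.2 then z * s p.1.1 else s p.1.1, p.1.1, p.1.2, by cases p.2 <;> simp⟩ : A)) ?_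
    rintro ⟨x, a, ha, rfl | rfl⟩
    · exact ⟨(⟨a, ha⟩, false), rfl⟩
    · exact ⟨(⟨a, ha⟩, true), rfl⟩
  refine ⟨A, ?_, ?_⟩
  · rintro x ⟨a, ha, rfl | rfl⟩
    · exact (hq a).1 ha
    · rw [mul_assoc, ← mul_assoc (s a), h.central, mul_assoc, h.z_mul_z, (hq a).1 ha]
  · have hinj : ∀ a b : E, s a = s b ∨ s a = z * s b → a = b := by
      intro a b hab
      have h0 : ∀ c : E, c + c = 0 := fun c => by
        rw [← two_smul (ZMod 2) c, show (2 : ZMod 2) = 0 from rfl, zero_smul]
      have : a + b = 0 := by
        apply h.inj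
        rcases hab with hab | hab <;> rcases h.map_add a b with h1 | h1 <;>
          rcases h.mul_self b with h2 | h2 <;> simp [h1, hab, h2, mul_assoc, h.sq]
      rw [← add_zero a, ← h0 b, ← add_assoc, this, zero_add]
    have h1 : Nat.card (q.ker × Bool) ≤ Nat.card A := by
      refine Nat.card_le_card_of_injective (fun p : q.ker × Bool =>
        (⟨if p.2 then z * s p.1.1 else s p.1.1, p.1.1, p.1.2, by cases p.2 <;> simp⟩ : A)) ?_
      rintro ⟨a, i⟩ ⟨b, j⟩ hab
      have hab' := congrArg Subtype.val hab
      have hne : ∀ g : G, z * g ≠ g := fun g h' => h.ne_one (mul_eq_right.1 h')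
      cases i <;> cases j <;> simp only [if_true, Bool.false_eq_true, if_false] at hab'
      · rw [Subtype.ext (Subtype.ext (hinj _ _ (Or.inl hab')))]
      · have := hinj _ _ (Or.inr hab')
        rw [this] at hab'
        exact (hne _ hab'.symm).elim
      · have := hinj _ _ (Or.inr hab'.symm)
        rw [this] at hab'
        exact (hne _ hab').elim
      · rw [Subtype.ext (Subtype.ext (hinj _ _ (Or.inl (mul_left_cancel hab'))))]
    have h2 : Nat.card L = Nat.card (L ⧸ q.ker) * Nat.card q.ker :=
      AddSubgroup.card_eq_card_quotient_mul_card_addSubgroup _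
    have h3 : Nat.card (L ⧸ q.ker) ≤ 2 := by
      rw [Nat.card_congr (QuotientAddGroup.quotientKerEquivRange q).toEquiv]
      exact (Nat.card_le_card_of_injective _ Subtype.val_injective).trans (by simp)
    rw [Nat.card_prod, Nat.card_eq_fintype_card (α := Bool), Fintype.card_bool] at h1
    calc Nat.card L ≤ 2 * Nat.card q.ker := h2 ▸ Nat.mul_le_mul_right _ h3
      _ ≤ _ := by omega

end IsLift

end Lift

variable {V : Type*} [AddCommGroup V] [Module F V] [FiniteDimensional F V]

theorem IsLift.card_le_of_nondegenerate (h2 : (2 : F) ≠ 0) [Nontrivial V]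
    {B : LinearMap.BilinForm F V} {E : Type*} [AddCommGroup E] [Module (ZMod 2) E] [Finite E]
    {s : E → isomGroup B} (h : IsLift (isoNeg B) s) (hnd : h.form.orthogonal ⊤ = ⊥) :
    Nat.card E ≤ finrank F V * finrank F V := by
  classical
  have := Fintype.ofFinite E
  let ε : ZMod 2 → F := fun r => if r = 0 then 1 else -1
  have hε : ∀ r t, ε (r + t) = ε r * ε t := fun r t => by
    rcases zmod_two_cases r with rfl | rfl <;> rcases zmod_two_cases t with rfl | rfl <;>
      simp [ε, show (1 : ZMod 2) + 1 = 0 from rfl]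
  have hεinj : Function.Injective ε := fun r t hrt => by
    have h1 : (1 : F) ≠ -1 := fun h' => h2 (by linear_combination h')
    rcases zmod_two_cases r with rfl | rfl <;> rcases zmod_two_cases t with rfl | rfl <;>
      simp_all [ε, h1.symm]
  let χ : E → (Multiplicative E →* F) := fun a =>
    { toFun := fun b => ε (h.form b.toAdd a)
      map_one' := by simp [ε]
      map_mul' := fun b c => by rw [toAdd_mul, _root_.map_add, LinearMap.add_apply, hε] }
  have hχ : Function.Injective χ := fun a a' haa => by
    rw [← sub_eq_zero, ← Submodule.mem_bot (ZMod 2), ← hnd]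
    intro b _
    have := hεinj (DFunLike.congr_fun haa (Multiplicative.ofAdd b))
    change h.form b (a - a') = 0
    rw [map_sub, sub_eq_zero]
    exact this
  let T : E → Module.End F V := fun a => ((s a : V ≃ₗ[F] V) : V →ₗ[F] V)
  have hconj : ∀ a b v, (s b : V ≃ₗ[F] V) (T a v) = ε (h.form b a) • T a ((s b : V ≃ₗ[F] V) v) := by
    intro a b v
    by_cases hab : s b * s a = s a * s b
    · rw [h.form_apply, cpair_eq_zero_iff.2 hab]
      simp only [ε, if_true, one_smul]
      exact LinearEquiv.congr_fun (congrArg Subtype.val hab) v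
    · have h1 : h.form b a ≠ 0 := fun h' => hab (cpair_eq_zero_iff.1 h')
      have h3 := LinearEquiv.congr_fun (congrArg Subtype.val ((h.comm b a).resolve_left hab)) v
      simp only [ε, if_neg h1, neg_smul, one_smul]
      exact h3
  have hli : LinearIndependent F T := by
    rw [Fintype.linearIndependent_iff]
    intro c hc a₀
    obtain ⟨v, hv⟩ := exists_ne (0 : V)
    have hTv : T a₀ v ≠ 0 := fun h' => hv ((s a₀ : V ≃ₗ[F] V).map_eq_zero_iff.1 h')
    obtain ⟨φ, hφ⟩ : ∃ φ : Module.Dual F V, φ (T a₀ v) ≠ 0 := by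
      by_contra! hcon
      exact hTv ((Module.forall_dual_apply_eq_zero_iff F _).1 hcon)
    have hli := (linearIndependent_monoidHom (Multiplicative E) F).comp χ hχ
    rw [Fintype.linearIndependent_iff] at hli
    have h1 := hli (fun a => c a * φ (T a v)) (by
      funext b
      have h3 := LinearMap.congr_fun hc ((s b.toAdd : V ≃ₗ[F] V).symm v)
      have h4 := congrArg (fun x => φ ((s b.toAdd : V ≃ₗ[F] V) x)) h3
      simp only [LinearMap.sum_apply, LinearMap.smul_apply, map_sum, map_smul, hconj,
        LinearEquiv.apply_symm_apply, LinearMap.zero_apply, map_zero, smul_eq_mul] at h4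
      simp only [Finset.sum_apply, Pi.smul_apply, Function.comp_apply, smul_eq_mul, Pi.zero_apply]
      rw [← h4]
      refine Finset.sum_congr rfl fun a _ => ?_
      change c a * φ (T a v) * ε (h.form b.toAdd a) = _
      ring) a₀
    exact (mul_eq_zero.1 h1).resolve_right hφ
  have := hli.fintype_card_le_finrank
  rwa [Module.finrank_linearMap, ← Nat.card_eq_fintype_card] at this

/-- `PSp(V)` with `dim V = 2m ≥ 6` in odd characteristic has 2-rank less than `2m`. -/
theorem not_injective_to_psp (h2 : (2 : F) ≠ 0) {B : LinearMap.BilinForm F V}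
    (hB : B.Nondegenerate) (hA : B.IsAlt) (h6 : 6 ≤ finrank F V) {E : Type*} [AddCommGroup E]
    [Module (ZMod 2) E] [Finite E] (hE : finrank (ZMod 2) E = finrank F V)
    (φ : Multiplicative E →* isomGroup B ⧸ Subgroup.center (isomGroup B)) :
    ¬ Function.Injective φ := by
  intro hφ
  have : Nontrivial V := (Module.finrank_pos_iff (R := F)).1 (by omega)
  let s : E → isomGroup B := fun a => (φ (Multiplicative.ofAdd a)).out
  have hs : ∀ a, (s a : isomGroup B ⧸ Subgroup.center (isomGroup B)) = φ (Multiplicative.ofAdd a) :=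
    fun a => QuotientGroup.out_eq' _
  have hz : isoNeg B ∈ Subgroup.center (isomGroup B) :=
    (mem_center_isomGroup_iff' hB hA).2 (Or.inr rfl)
  have h : IsLift (isoNeg B) s :=
    { central := Subgroup.mem_center_iff.1 hz
      sq := Subtype.ext (LinearEquiv.ext fun v => neg_neg v)
      ne_one := fun h => h2 ((isoNeg_eq_one_iff B).1 h)
      map_add := fun a b => by
        have h1 : ((s a * s b : isomGroup B) : isomGroup B ⧸ Subgroup.center (isomGroup B)) =
            s (a + b) := by
          rw [QuotientGroup.mk_mul, hs, hs, hs, ← map_mul, ofAdd_add]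
        rw [QuotientGroup.eq, mem_center_isomGroup_iff' hB hA] at h1
        rcases h1 with h1 | h1
        · exact Or.inl (inv_mul_eq_one.1 h1).symm
        · right
          rw [← Subgroup.mem_center_iff.1 hz, ← h1, mul_inv_cancel_left]
      inj := fun a ha => by
        have h1 : (s a : isomGroup B ⧸ Subgroup.center (isomGroup B)) = 1 :=
          (QuotientGroup.eq_one_iff _).2 ((mem_center_isomGroup_iff' hB hA).2 ha)
        rw [hs, ← map_one φ] at h1
        exact hφ h1 }
  have hcard : Nat.card E = 2 ^ finrank F V := by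
    rw [Module.natCard_eq_pow_finrank (K := ZMod 2), hE, Nat.card_zmod]
  by_cases hnd : h.form.orthogonal ⊤ = ⊥
  · have h1 := h.card_le_of_nondegenerate h2 hnd
    rw [hcard] at h1
    have h3 : ∀ n, 5 ≤ n → n * n < 2 ^ n := fun n hn => by
      induction n, hn using Nat.le_induction with
      | base => norm_num
      | succ n hn ih => rw [pow_succ]; nlinarith
    exact absurd h1 (not_le.2 (h3 _ (by omega)))
  · obtain ⟨L, hL, hdim⟩ := exists_maximal_isotropic h.form_isAlt
    obtain ⟨A, hAexp, hAcard⟩ := h.exists_exponent_two L fun a ha b hb =>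
      cpair_eq_zero_iff.1 (hL a ha b hb)
    have h1 := card_sq_le_of_exponent_two h2 _ hB hA rfl A hAexp
    have h3 : finrank (ZMod 2) (h.form.orthogonal ⊤) ≠ 0 := fun h' =>
      hnd (Submodule.finrank_eq_zero.1 h')
    rw [Module.natCard_eq_pow_finrank (K := ZMod 2), Nat.card_zmod] at hAcard
    have h4 : (2 ^ finrank (ZMod 2) L) ^ 2 ≤ 2 ^ finrank F V :=
      (Nat.pow_le_pow_left hAcard 2).trans h1
    rw [← pow_mul, Nat.pow_le_pow_iff_right one_lt_two] at h4
    omega

end Cfsg.Agent.H27
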